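import Cfsg.Agent.Lib.helper17.HeOut.Elems
import Cfsg.Agent.Lib.helper17.HeOut.ChainData

set_option autoImplicit false
set_option maxRecDepth 100000

/-! the chain of stabilisers: generation and the base (generated, helper17) -/

namespace Cfsg.Agent.Lib.helper17.HeOut

open Cfsg.Agent.Lib.Helper12.TC

theorem rho_injective : Function.Injective rho := by
  rw [← MonoidHom.ker_eq_bot_iff]
  rcases (MonoidHom.normal_ker rho).eq_bot_or_eq_top with h | h
  · exact h
  · exfalso
    have h0 : e0 ∈ rho.ker := by rw [h]; exact Subgroup.mem_top _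
    rw [MonoidHom.mem_ker] at h0
    have := rep0 ⟨11, by norm_num⟩
    rw [h0] at this
    exact t0_moves this.symm

/-- the subgroup generated by the images of the element of order 17 and the involution -/
noncomputable def HH : Subgroup PP := Subgroup.closure {rho e7, rho e23}

/-- all members of a list are mapped into `HH` -/
def AllMem : List Cfsg.Spor.He → Prop
  | [] => True
  | g :: l => rho g ∈ HH ∧ AllMem l

theorem mem_of_word (gs : List Cfsg.Spor.He) (h : AllMem gs) : rho gs.prod ∈ HH := by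
  induction gs with
  | nil => simp [Subgroup.one_mem]
  | cons g l ih =>
    rw [List.prod_cons, map_mul]
    exact Subgroup.mul_mem _ h.1 (ih h.2)

/-- all members of a list are in a subgroup -/
def AllIn (H : Subgroup PP) : List PP → Prop
  | [] => True
  | g :: l => g ∈ H ∧ AllIn H l

theorem allIn_mem (H : Subgroup PP) (gs : List PP) (h : AllIn H gs) : ∀ g ∈ gs, g ∈ H := by
  induction gs with
  | nil => intro g hg; simp at hg
  | cons a l ih =>
    intro g hg
    rcases List.mem_cons.mp hg with rfl | hg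
    · exact h.1
    · exact ih h.2 g hg

theorem mem7 : rho e7 ∈ HH := Subgroup.subset_closure (by simp)

theorem mem23 : rho e23 ∈ HH := Subgroup.subset_closure (by simp)

theorem mem8 : rho e8 ∈ HH := mem_of_word [e7, e7] ⟨mem7, mem7, trivial⟩

theorem mem9 : rho e9 ∈ HH := mem_of_word [e8, e7] ⟨mem8, mem7, trivial⟩

theorem mem10 : rho e10 ∈ HH := mem_of_word [e9, e7] ⟨mem9, mem7, trivial⟩

theorem mem11 : rho e11 ∈ HH := mem_of_word [e10, e7] ⟨mem10, mem7, trivial⟩

theorem mem12 : rho e12 ∈ HH := mem_of_word [e11, e7] ⟨mem11, mem7, trivial⟩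

theorem mem13 : rho e13 ∈ HH := mem_of_word [e12, e7] ⟨mem12, mem7, trivial⟩

theorem mem14 : rho e14 ∈ HH := mem_of_word [e13, e7] ⟨mem13, mem7, trivial⟩

theorem mem15 : rho e15 ∈ HH := mem_of_word [e14, e7] ⟨mem14, mem7, trivial⟩

theorem mem16 : rho e16 ∈ HH := mem_of_word [e15, e7] ⟨mem15, mem7, trivial⟩

theorem mem17 : rho e17 ∈ HH := mem_of_word [e16, e7] ⟨mem16, mem7, trivial⟩

theorem mem18 : rho e18 ∈ HH := mem_of_word [e17, e7] ⟨mem17, mem7, trivial⟩

theorem mem19 : rho e19 ∈ HH := mem_of_word [e18, e7] ⟨mem18, mem7, trivial⟩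

theorem mem20 : rho e20 ∈ HH := mem_of_word [e19, e7] ⟨mem19, mem7, trivial⟩

theorem mem21 : rho e21 ∈ HH := mem_of_word [e20, e7] ⟨mem20, mem7, trivial⟩

theorem mem22 : rho e22 ∈ HH := mem_of_word [e21, e7] ⟨mem21, mem7, trivial⟩

theorem mem24 : rho e24 ∈ HH := mem_of_word [e20, e23, e20, e23, e18, e23, e21, e14, e23, e9, e23, e9, e23, e9] ⟨mem20, mem23, mem20, mem23, mem18, mem23, mem21, mem14, mem23, mem9, mem23, mem9, mem23, mem9, trivial⟩

theorem mem25 : rho e25 ∈ HH := mem_of_word [e20, e23, e20, e23, e20, e23, e15, e8, e23, e11, e23, e9, e23, e9] ⟨mem20, mem23, mem20, mem23, mem20, mem23, mem15, mem8, mem23, mem11, mem23, mem9, mem23, mem9, trivial⟩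

theorem mem26 : rho e26 ∈ HH := mem_of_word [e22, e23, e17, e23, e20, e23, e14, e23, e10, e23, e9, e23, e9, e23, e9] ⟨mem22, mem23, mem17, mem23, mem20, mem23, mem14, mem23, mem10, mem23, mem9, mem23, mem9, mem23, mem9, trivial⟩

theorem mem27 : rho e27 ∈ HH := mem_of_word [e20, e23, e20, e23, e20, e23, e19, e23, e15, e23, e9, e23, e12, e23, e7] ⟨mem20, mem23, mem20, mem23, mem20, mem23, mem19, mem23, mem15, mem23, mem9, mem23, mem12, mem23, mem7, trivial⟩

theorem mem28 : rho e28 ∈ HH := mem_of_word [e24, e26, e26, e24, e24, e26, e25, e25, e26, e25, e26, e26, e24, e26, e26] ⟨mem24, mem26, mem26, mem24, mem24, mem26, mem25, mem25, mem26, mem25, mem26, mem26, mem24, mem26, mem26, trivial⟩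

theorem mem29 : rho e29 ∈ HH := mem_of_word [e27, e27, e25, e27, e27, e24, e27, e24, e24, e27, e25, e25, e27, e27, e25] ⟨mem27, mem27, mem25, mem27, mem27, mem24, mem27, mem24, mem24, mem27, mem25, mem25, mem27, mem27, mem25, trivial⟩

theorem mem30 : rho e30 ∈ HH := mem_of_word [e25, e26, e26, e25, e27, e25, e27, e25, e26, e24, e27, e25, e25, e27, e24, e24] ⟨mem25, mem26, mem26, mem25, mem27, mem25, mem27, mem25, mem26, mem24, mem27, mem25, mem25, mem27, mem24, mem24, trivial⟩

theorem mem31 : rho e31 ∈ HH := mem_of_word [e25, e25, e26, e24, e24, e26, e25, e27, e24, e26, e24, e26, e24, e27, e27, e24] ⟨mem25, mem25, mem26, mem24, mem24, mem26, mem25, mem27, mem24, mem26, mem24, mem26, mem24, mem27, mem27, mem24, trivial⟩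

theorem mem32 : rho e32 ∈ HH := mem_of_word [e26, e24, e26, e25, e25, e25, e25, e26, e24, e26, e24, e26, e26, e24] ⟨mem26, mem24, mem26, mem25, mem25, mem25, mem25, mem26, mem24, mem26, mem24, mem26, mem26, mem24, trivial⟩

theorem mem33 : rho e33 ∈ HH := mem_of_word [e25, e27, e27, e25, e27, e25, e27, e24, e24, e24, e24, e27, e25, e27] ⟨mem25, mem27, mem27, mem25, mem27, mem25, mem27, mem24, mem24, mem24, mem24, mem27, mem25, mem27, trivial⟩

theorem mem34 : rho e34 ∈ HH := mem_of_word [e32, e31, e32, e28, e28, e32, e30, e29, e33] ⟨mem32, mem31, mem32, mem28, mem28, mem32, mem30, mem29, mem33, trivial⟩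

theorem mem35 : rho e35 ∈ HH := mem_of_word [e32, e28, e31, e33, e29, e29, e33, e30, e33] ⟨mem32, mem28, mem31, mem33, mem29, mem29, mem33, mem30, mem33, trivial⟩

theorem mem36 : rho e36 ∈ HH := mem_of_word [e33, e29, e32, e30, e30, e32, e28, e31] ⟨mem33, mem29, mem32, mem30, mem30, mem32, mem28, mem31, trivial⟩

theorem mem37 : rho e37 ∈ HH := mem_of_word [e30, e29, e33, e31, e31, e33, e28, e32] ⟨mem30, mem29, mem33, mem31, mem31, mem33, mem28, mem32, trivial⟩

/-- the points of the base -/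
def bb1 : Fin 2058 := ⟨0, by norm_num⟩
/-- the points of the base -/
def bb2 : Fin 2058 := ⟨11, by norm_num⟩
/-- the points of the base -/
def bb3 : Fin 2058 := ⟨4, by norm_num⟩
/-- the points of the base -/
def bb4 : Fin 2058 := ⟨6, by norm_num⟩

/-- the stabilisers of the base points -/
noncomputable def HH1 : Subgroup PP := HH ⊓ MulAction.stabilizer PP bb1
/-- the stabilisers of the base points -/
noncomputable def HH2 : Subgroup PP := HH1 ⊓ MulAction.stabilizer PP bb2
/-- the stabilisers of the base points -/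
noncomputable def HH3 : Subgroup PP := HH2 ⊓ MulAction.stabilizer PP bb3
/-- the stabilisers of the base points -/
noncomputable def HH4 : Subgroup PP := HH3 ⊓ MulAction.stabilizer PP bb4

theorem fix_of_rep (T : ℕ) (g : PP) (h : Rep T g) (b : Fin 2058) (hb : lk T b.1 = b.1) :
    g ∈ MulAction.stabilizer PP b := by
  rw [MulAction.mem_stabilizer_iff]
  apply Fin.ext
  show (g b).1 = b.1
  rw [h b, hb]

/-- the permutations of the letters of level 1 -/
noncomputable def gs1 : List PP := [rho e7, rho e8, rho e9, rho e10, rho e11, rho e12, rho e13, rho e14, rho e15, rho e16, rho e17, rho e18, rho e19, rho e20, rho e21, rho e22, rho e23]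

theorem hrep1 : List.Forall₂ Rep lets1 gs1 :=
  (List.Forall₂.cons rep7 (List.Forall₂.cons rep8 (List.Forall₂.cons rep9 (List.Forall₂.cons rep10 (List.Forall₂.cons rep11 (List.Forall₂.cons rep12 (List.Forall₂.cons rep13 (List.Forall₂.cons rep14 (List.Forall₂.cons rep15 (List.Forall₂.cons rep16 (List.Forall₂.cons rep17 (List.Forall₂.cons rep18 (List.Forall₂.cons rep19 (List.Forall₂.cons rep20 (List.Forall₂.cons rep21 (List.Forall₂.cons rep22 (List.Forall₂.cons rep23 List.Forall₂.nil)))))))))))))))))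

theorem hin1 : AllIn HH gs1 :=
  ⟨mem7, mem8, mem9, mem10, mem11, mem12, mem13, mem14, mem15, mem16, mem17, mem18, mem19, mem20, mem21, mem22, mem23, trivial⟩

theorem step1 : 2058 * Nat.card HH1 ≤ Nat.card HH :=
  card_stab_step HH bb1 2058 (by
    have h := orbit_card_ge lets1 gs1 hrep1 OT1 0 (by norm_num) orb1 HH (allIn_mem _ _ hin1)
    rw [cnt1] at h
    exact h)

/-- the permutations of the letters of level 2 -/
noncomputable def gs2 : List PP := [rho e24, rho e25, rho e26, rho e27]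

theorem hrep2 : List.Forall₂ Rep lets2 gs2 :=
  (List.Forall₂.cons rep24 (List.Forall₂.cons rep25 (List.Forall₂.cons rep26 (List.Forall₂.cons rep27 List.Forall₂.nil))))

theorem hin2 : AllIn HH1 gs2 :=
  ⟨⟨mem24, fix_of_rep T24 _ rep24 bb1 fix24_1⟩, ⟨mem25, fix_of_rep T25 _ rep25 bb1 fix25_1⟩, ⟨mem26, fix_of_rep T26 _ rep26 bb1 fix26_1⟩, ⟨mem27, fix_of_rep T27 _ rep27 bb1 fix27_1⟩, trivial⟩

theorem step2 : 1360 * Nat.card HH2 ≤ Nat.card HH1 :=
  card_stab_step HH1 bb2 1360 (by
    have h := orbit_card_ge lets2 gs2 hrep2 OT2 11 (by norm_num) orb2 HH1 (allIn_mem _ _ hin2)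
    rw [cnt2] at h
    exact h)

/-- the permutations of the letters of level 3 -/
noncomputable def gs3 : List PP := [rho e28, rho e29, rho e30, rho e31, rho e32, rho e33]

theorem hrep3 : List.Forall₂ Rep lets3 gs3 :=
  (List.Forall₂.cons rep28 (List.Forall₂.cons rep29 (List.Forall₂.cons rep30 (List.Forall₂.cons rep31 (List.Forall₂.cons rep32 (List.Forall₂.cons rep33 List.Forall₂.nil))))))

theorem hin3 : AllIn HH2 gs3 :=
  ⟨⟨⟨mem28, fix_of_rep T28 _ rep28 bb1 fix28_1⟩, fix_of_rep T28 _ rep28 bb2 fix28_2⟩, ⟨⟨mem29, fix_of_rep T29 _ rep29 bb1 fix29_1⟩, fix_of_rep T29 _ rep29 bb2 fix29_2⟩, ⟨⟨mem30, fix_of_rep T30 _ rep30 bb1 fix30_1⟩, fix_of_rep T30 _ rep30 bb2 fix30_2⟩, ⟨⟨mem31, fix_of_rep T31 _ rep31 bb1 fix31_1⟩, fix_of_rep T31 _ rep31 bb2 fix31_2⟩, ⟨⟨mem32, fix_of_rep T32 _ rep32 bb1 fix32_1⟩, fix_of_rep T32 _ rep32 bb2 fix32_2⟩, ⟨⟨mem33, fix_of_rep T33 _ rep33 bb1 fix33_1⟩, fix_of_rep T33 _ rep33 bb2 fix33_2⟩, trivial⟩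

theorem step3 : 360 * Nat.card HH3 ≤ Nat.card HH2 :=
  card_stab_step HH2 bb3 360 (by
    have h := orbit_card_ge lets3 gs3 hrep3 OT3 4 (by norm_num) orb3 HH2 (allIn_mem _ _ hin3)
    rw [cnt3] at h
    exact h)

/-- the permutations of the letters of level 4 -/
noncomputable def gs4 : List PP := [rho e34, rho e35, rho e36, rho e37]

theorem hrep4 : List.Forall₂ Rep lets4 gs4 :=
  (List.Forall₂.cons rep34 (List.Forall₂.cons rep35 (List.Forall₂.cons rep36 (List.Forall₂.cons rep37 List.Forall₂.nil))))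

theorem hin4 : AllIn HH3 gs4 :=
  ⟨⟨⟨⟨mem34, fix_of_rep T34 _ rep34 bb1 fix34_1⟩, fix_of_rep T34 _ rep34 bb2 fix34_2⟩, fix_of_rep T34 _ rep34 bb3 fix34_3⟩, ⟨⟨⟨mem35, fix_of_rep T35 _ rep35 bb1 fix35_1⟩, fix_of_rep T35 _ rep35 bb2 fix35_2⟩, fix_of_rep T35 _ rep35 bb3 fix35_3⟩, ⟨⟨⟨mem36, fix_of_rep T36 _ rep36 bb1 fix36_1⟩, fix_of_rep T36 _ rep36 bb2 fix36_2⟩, fix_of_rep T36 _ rep36 bb3 fix36_3⟩, ⟨⟨⟨mem37, fix_of_rep T37 _ rep37 bb1 fix37_1⟩, fix_of_rep T37 _ rep37 bb2 fix37_2⟩, fix_of_rep T37 _ rep37 bb3 fix37_3⟩, trivial⟩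

theorem step4 : 4 * Nat.card HH4 ≤ Nat.card HH3 :=
  card_stab_step HH3 bb4 4 (by
    have h := orbit_card_ge lets4 gs4 hrep4 OT4 6 (by norm_num) orb4 HH3 (allIn_mem _ _ hin4)
    rw [cnt4] at h
    exact h)

theorem HH_le : HH ≤ rho.range := by
  rw [HH, Subgroup.closure_le]
  rintro x (rfl | rfl)
  · exact ⟨e7, rfl⟩
  · exact ⟨e23, rfl⟩

theorem card_range : Nat.card rho.range = 4030387200 := by
  rw [← card_he]
  exact (Nat.card_congr (MonoidHom.ofInjective rho_injective).toEquiv).symm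

theorem chain_card : 4030387200 * Nat.card HH4 ≤ Nat.card HH := by
  have h1 := step1
  have h2 := step2
  have h3 := step3
  have h4 := step4
  calc 4030387200 * Nat.card HH4 = 2058 * (1360 * (360 * (4 * Nat.card HH4))) := by ring
    _ ≤ 2058 * (1360 * (360 * Nat.card HH3)) := by gcongr
    _ ≤ 2058 * (1360 * Nat.card HH2) := by gcongr
    _ ≤ 2058 * Nat.card HH1 := by gcongr
    _ ≤ Nat.card HH := h1

theorem card_HH_le : Nat.card HH ≤ 4030387200 := by
  rw [← card_range]
  exact Subgroup.card_le_of_le HH_le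

theorem card_HH4 : Nat.card HH4 = 1 := by
  have h1 := chain_card
  have h2 := card_HH_le
  have h3 : 0 < Nat.card HH4 := Nat.card_pos
  nlinarith

theorem HH_eq : HH = rho.range := by
  have h1 := chain_card
  have h2 := card_HH4
  rw [h2, mul_one] at h1
  apply Subgroup.eq_of_le_of_card_ge HH_le
  rw [card_range]
  exact h1

/-- the element of order 17 and the involution generate He -/
theorem gen_cz : Subgroup.closure {e7, e23} = (⊤ : Subgroup Cfsg.Spor.He) := by
  apply Subgroup.map_injective rho_injective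
  rw [MonoidHom.map_closure, ← MonoidHom.range_eq_map, ← HH_eq, HH]
  congr 1
  simp [Set.image_pair]

/-- an element of He is determined by the images of the four points of the base -/
theorem eq_of_base (g h : Cfsg.Spor.He) (h1 : rho g bb1 = rho h bb1) (h2 : rho g bb2 = rho h bb2)
    (h3 : rho g bb3 = rho h bb3) (h4 : rho g bb4 = rho h bb4) : g = h := by
  have hx : rho (g⁻¹ * h) ∈ HH4 := by
    have hfix : ∀ b : Fin 2058, rho g b = rho h b → rho (g⁻¹ * h) ∈ MulAction.stabilizer PP b := by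
      intro b hb
      rw [MulAction.mem_stabilizer_iff, map_mul, map_inv]
      show (rho g)⁻¹ (rho h b) = b
      rw [← hb]
      simp
    refine ⟨⟨⟨⟨?_, hfix _ h1⟩, hfix _ h2⟩, hfix _ h3⟩, hfix _ h4⟩
    rw [HH_eq]
    exact ⟨_, rfl⟩
  have hbot : HH4 = ⊥ := Subgroup.card_eq_one.mp card_HH4
  rw [hbot, Subgroup.mem_bot] at hx
  have : g⁻¹ * h = 1 := rho_injective (by rw [hx, map_one])
  calc g = g * (g⁻¹ * h) := by rw [this, mul_one]
    _ = h := by group

end Cfsg.Agent.Lib.helper17.HeOut
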