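import Mathlib
import Cfsg.Prelude.Def_KGroupFacts
import Cfsg.Agent.Lib.helper4.HSOAbs

set_option autoImplicit false

/-! Abstract group theory for `|Out He| = 2` (helper17): an element `c` of order 17 generating a
Sylow subgroup, a 2-central involution `z`, the conjugates of `z` listed as orbits of `⟨c⟩`, an order
pattern that pins down `z` among them, and an automorphism cubing `c`. -/

namespace Cfsg.Agent.Lib.helper17.HeOut

open Cfsg.Agent.Lib.helper4
open scoped Pointwise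

/-- the order pattern of the pair `(c, x)` -/
def Pat {G : Type*} [Group G] (c x : G) : Prop := (c * x) ^ 3 = 1 ∧ (c ^ 6 * x) ^ 4 = 1

theorem Pat.map {G : Type*} [Group G] (α : MulAut G) {c x : G} (h : Pat c x) :
    Pat (α c) (α x) := by
  obtain ⟨h1, h2⟩ := h
  constructor
  · rw [← map_mul, ← map_pow, h1, map_one]
  · rw [← map_pow, ← map_mul, ← map_pow, h2, map_one]

theorem mod17_cases (k : ℕ) (h0 : 0 < k) (h1 : k < 17) :
    ∃ j : ℕ, 2 ^ j * k % 17 = 1 ∨ 2 ^ j * k % 17 = 3 := by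
  interval_cases k
  · exact ⟨0, Or.inl (by norm_num)⟩
  · exact ⟨7, Or.inl (by norm_num)⟩
  · exact ⟨0, Or.inr (by norm_num)⟩
  · exact ⟨6, Or.inl (by norm_num)⟩
  · exact ⟨2, Or.inr (by norm_num)⟩
  · exact ⟨7, Or.inr (by norm_num)⟩
  · exact ⟨5, Or.inr (by norm_num)⟩
  · exact ⟨5, Or.inl (by norm_num)⟩
  · exact ⟨1, Or.inl (by norm_num)⟩
  · exact ⟨1, Or.inr (by norm_num)⟩
  · exact ⟨3, Or.inr (by norm_num)⟩
  · exact ⟨6, Or.inr (by norm_num)⟩
  · exact ⟨2, Or.inl (by norm_num)⟩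
  · exact ⟨4, Or.inr (by norm_num)⟩
  · exact ⟨3, Or.inl (by norm_num)⟩
  · exact ⟨4, Or.inl (by norm_num)⟩

theorem pow_conj_powr {G : Type*} [Group G] (u c : G) (r : ℕ) (hu : u * c * u⁻¹ = c ^ r) (j : ℕ) :
    u ^ j * c * (u ^ j)⁻¹ = c ^ r ^ j := by
  induction j with
  | zero => simp
  | succ j ih =>
    have e : u ^ (j + 1) * c * (u ^ (j + 1))⁻¹ = u * (u ^ j * c * (u ^ j)⁻¹) * u⁻¹ := by
      rw [pow_succ']
      group
    rw [e, ih]
    have h2 : u * c ^ r ^ j * u⁻¹ = (u * c * u⁻¹) ^ r ^ j := by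
      rw [conj_pow]
    rw [h2, hu, ← pow_mul, pow_succ, mul_comm]

theorem conj_pow_powr {G : Type*} [Group G] (u c : G) (r : ℕ) (hu : u * c * u⁻¹ = c ^ r) (j k : ℕ) :
    u ^ j * c ^ k * (u ^ j)⁻¹ = c ^ (r ^ j * k) := by
  have := pow_conj_powr u c r hu j
  rw [← conj_pow, this, ← pow_mul]

/-- after an inner automorphism, an automorphism sends `c` to `c` or to its cube -/
theorem out_step_seventeen {G : Type*} [Group G] [Finite G] (c u : G)
    (hfac : (Nat.card G).factorization 17 = 1) (hc : orderOf c = 17)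
    (hu : u * c * u⁻¹ = c ^ 2) (α : MulAut G) :
    ∃ g : G, g * α c * g⁻¹ = c ∨ g * α c * g⁻¹ = c ^ 3 := by
  classical
  have : Fact (Nat.Prime 17) := ⟨by norm_num⟩
  have hcmod : ∀ n : ℕ, c ^ n = c ^ (n % 17) := by
    intro n
    rw [← hc, pow_mod_orderOf]
  have hαc : orderOf (α c) = 17 := by rw [MulEquiv.orderOf_eq, hc]
  obtain ⟨g, hg⟩ := conj_into_subgroup 17 (Subgroup.zpowers c) 1 hfac
    (by rw [Nat.card_zpowers, hc]; norm_num) (α c) hαc
  rw [mem_zpowers_iff_mem_range_orderOf, Finset.mem_image] at hg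
  obtain ⟨k, hk, hck⟩ := hg
  rw [Finset.mem_range, hc] at hk
  have hk0 : 0 < k := by
    rcases Nat.eq_zero_or_pos k with h | h
    · exfalso
      rw [h, pow_zero] at hck
      have : α c = 1 := by
        calc α c = g * (g⁻¹ * α c * g) * g⁻¹ := by group
          _ = 1 := by rw [← hck]; group
      rw [this, orderOf_one] at hαc
      norm_num at hαc
    · exact h
  obtain ⟨j, hj⟩ := mod17_cases k hk0 hk
  refine ⟨u ^ j * g⁻¹, ?_⟩
  have e : u ^ j * g⁻¹ * α c * (u ^ j * g⁻¹)⁻¹ = u ^ j * (g⁻¹ * α c * g) * (u ^ j)⁻¹ := by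
    group
  rw [e, ← hck, conj_pow_powr u c 2 hu j k, hcmod]
  rcases hj with h | h
  · left; rw [h, pow_one]
  · right; rw [h]

/-- an automorphism sends the involution in the centre of a Sylow 2-subgroup to a conjugate -/
theorem aut_conj_of_sylow_center {G : Type*} [Group G] [Finite G] (S : Subgroup G) (n : ℕ)
    (hfac : (Nat.card G).factorization 2 = n) (hS : Nat.card S = 2 ^ n) (z : G) (hzS : z ∈ S)
    (hz1 : z ≠ 1)
    (hcen : ∀ x ∈ S, (∀ y ∈ S, x * y = y * x) → x = 1 ∨ x = z) (α : MulAut G) :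
    ∃ g : G, α z = g * z * g⁻¹ := by
  classical
  have : Fact (Nat.Prime 2) := ⟨Nat.prime_two⟩
  have hzc : ∀ y ∈ S, z * y = y * z := by
    -- the centre of a nontrivial 2-group is nontrivial, and its only nontrivial element is `z`
    have hp : IsPGroup 2 S := IsPGroup.of_card hS
    have hnt : Nontrivial S := ⟨⟨⟨z, hzS⟩, 1, fun h => hz1 (congrArg Subtype.val h)⟩⟩
    have hcn : Nontrivial (Subgroup.center S) := hp.center_nontrivial
    obtain ⟨⟨w, hw⟩, hw1⟩ := exists_ne (1 : Subgroup.center S)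
    have hwS : (w : G) ∈ S := w.2
    have hwc : ∀ y ∈ S, (w : G) * y = y * (w : G) := by
      intro y hy
      have := (Subgroup.mem_center_iff.mp hw) ⟨y, hy⟩
      have h2 := congrArg Subtype.val this
      simpa using h2.symm
    rcases hcen w hwS hwc with h | h
    · exfalso
      apply hw1
      apply Subtype.ext
      apply Subtype.ext
      simpa using h
    · rw [← h]; exact hwc
  let S' : Subgroup G := S.map α.toMonoidHom
  have hS' : Nat.card S' = 2 ^ n := by
    rw [← hS]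
    exact Subgroup.card_map_of_injective α.injective
  let P : Sylow 2 G := Sylow.ofCard S (by rw [hfac]; exact hS)
  let Q : Sylow 2 G := Sylow.ofCard S' (by rw [hfac]; exact hS')
  obtain ⟨g, hg⟩ := MulAction.exists_smul_eq G P Q
  have hPQ : MulAut.conj g • (P : Subgroup G) = (Q : Subgroup G) := by
    rw [← Sylow.coe_subgroup_smul, hg]
  have hP : (P : Subgroup G) = S := rfl
  have hQ : (Q : Subgroup G) = S' := rfl
  rw [hP, hQ] at hPQ
  -- `g⁻¹ * α z * g` is a central element of `S`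
  have hαz : α z ∈ S' := ⟨z, hzS, rfl⟩
  have hmem : ∀ x : G, x ∈ S' ↔ g⁻¹ * x * g ∈ S := by
    intro x
    rw [← hPQ, Subgroup.mem_pointwise_smul_iff_inv_smul_mem]
    have e : (MulAut.conj g)⁻¹ • x = g⁻¹ * x * g := by
      rw [← map_inv, MulAut.smul_def, MulAut.conj_apply, inv_inv]
    rw [e]
  have h1 : g⁻¹ * α z * g ∈ S := (hmem _).mp hαz
  have h2 : ∀ y ∈ S, (g⁻¹ * α z * g) * y = y * (g⁻¹ * α z * g) := by
    intro y hy
    have hy' : g * y * g⁻¹ ∈ S' := by
      rw [hmem]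
      have : g⁻¹ * (g * y * g⁻¹) * g = y := by group
      rw [this]; exact hy
    obtain ⟨y0, hy0, hy0e⟩ := hy'
    have hc0 : α z * α y0 = α y0 * α z := by
      rw [← map_mul, ← map_mul, hzc y0 hy0]
    have hy0e' : α y0 = g * y * g⁻¹ := hy0e
    rw [hy0e'] at hc0
    calc g⁻¹ * α z * g * y = g⁻¹ * (α z * (g * y * g⁻¹)) * g := by group
      _ = g⁻¹ * (g * y * g⁻¹ * α z) * g := by rw [hc0]
      _ = y * (g⁻¹ * α z * g) := by group
  rcases hcen _ h1 h2 with h | h
  · exfalso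
    have : α z = 1 := by
      calc α z = g * (g⁻¹ * α z * g) * g⁻¹ := by group
        _ = 1 := by rw [h]; group
    have hz' : z = 1 := by
      have := congrArg α.symm this
      simpa using this
    exact hz1 hz'
  · refine ⟨g, ?_⟩
    calc α z = g * (g⁻¹ * α z * g) * g⁻¹ := by group
      _ = g * z * g⁻¹ := by rw [h]

end Cfsg.Agent.Lib.helper17.HeOut
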