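import Cfsg.Agent.Lib.helper17.HeOut.Abs

set_option autoImplicit false

/-! The counting argument for `|Out He| = 2` (helper17). -/

namespace Cfsg.Agent.Lib.helper17.HeOut

open Cfsg.Agent.Lib.helper4
open scoped Pointwise

theorem factorization_of_eq (n p k m : ℕ) (hp : p.Prime) (e : n = p ^ k * m) (hm : ¬ p ∣ m) :
    n.factorization p = k := by
  have hm0 : m ≠ 0 := by
    rintro rfl
    exact hm (dvd_zero p)
  rw [e, Nat.factorization_mul (pow_ne_zero _ hp.ne_zero) hm0, Nat.Prime.factorization_pow hp]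
  have : m.factorization p = 0 := Nat.factorization_eq_zero_of_not_dvd hm
  simp [this]

/-- all conjugates of `z` are in the list -/
theorem conj_mem_list {G : Type*} [Group G] [Finite G] (c z : G)
    (hgen : Subgroup.closure {c, z} = ⊤) (m : ℕ) (xs : ℕ → G) (hm : 0 < m) (hx0 : xs 0 = z)
    (hclos : ∀ i < m, ∀ j : ℕ, ∃ i' < m, ∃ k : ℕ,
      z * (c ^ j * xs i * (c ^ j)⁻¹) * z⁻¹ = c ^ k * xs i' * (c ^ k)⁻¹) (g : G) :
    ∃ i < m, ∃ k : ℕ, g * z * g⁻¹ = c ^ k * xs i * (c ^ k)⁻¹ := by
  let X : Set G := {y | ∃ i < m, ∃ k : ℕ, y = c ^ k * xs i * (c ^ k)⁻¹}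
  have hQ : ∀ g : G, ∀ y ∈ X, g * y * g⁻¹ ∈ X := by
    intro g
    have hg : g ∈ Subgroup.closure ({c, z} : Set G) := by rw [hgen]; exact Subgroup.mem_top g
    induction hg using Subgroup.closure_induction with
    | mem s hs =>
      rcases hs with rfl | rfl
      · rintro y ⟨i, hi, k, rfl⟩
        refine ⟨i, hi, k + 1, ?_⟩
        rw [pow_succ']
        group
      · rintro y ⟨i, hi, k, rfl⟩
        obtain ⟨i', hi', k', h⟩ := hclos i hi k
        exact ⟨i', hi', k', h⟩
    | one =>
      intro y hy
      simpa using hy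
    | mul a b _ _ ha hb =>
      intro y hy
      have := ha _ (hb y hy)
      have e : a * b * y * (a * b)⁻¹ = a * (b * y * b⁻¹) * a⁻¹ := by group
      rw [e]; exact this
    | inv a _ ha =>
      intro y hy
      have hpow : ∀ n : ℕ, ∀ y ∈ X, a ^ n * y * (a ^ n)⁻¹ ∈ X := by
        intro n
        induction n with
        | zero => intro y hy; simpa using hy
        | succ n ih =>
          intro y hy
          have := ha _ (ih y hy)
          have e : a ^ (n + 1) * y * (a ^ (n + 1))⁻¹ = a * (a ^ n * y * (a ^ n)⁻¹) * a⁻¹ := by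
            rw [pow_succ']; group
          rw [e]; exact this
      have hinv : a⁻¹ = a ^ (orderOf a - 1) := by
        apply inv_eq_of_mul_eq_one_right
        rw [← pow_succ', Nat.sub_add_cancel (orderOf_pos a), pow_orderOf_eq_one]
      rw [hinv]
      exact hpow _ y hy
  have hz : z ∈ X := ⟨0, hm, 0, by rw [hx0]; simp⟩
  exact hQ g z hz

/-- the centraliser of `c` is generated by `c` -/
theorem centralizer_c {G : Type*} [Group G] (c z : G)
    (hcen : ∀ g : G, (∀ h : G, g * h = h * g) → g = 1)
    (hgen : Subgroup.closure {c, z} = ⊤) (m : ℕ) (xs : ℕ → G) (hx0 : xs 0 = z)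
    (hX : ∀ g : G, ∃ i < m, ∃ k : ℕ, g * z * g⁻¹ = c ^ k * xs i * (c ^ k)⁻¹)
    (hPz : Pat c z) (hP1 : ∀ i < m, i ≠ 0 → ¬ Pat c (xs i)) (g : G) (hg : g * c = c * g) :
    ∃ k : ℕ, g = c ^ k := by
  obtain ⟨i, hi, k, hk⟩ := hX g
  have h1 : Pat c (g * z * g⁻¹) := by
    have := Pat.map (MulAut.conj g) hPz
    rw [MulAut.conj_apply, MulAut.conj_apply] at this
    have e : g * c * g⁻¹ = c := by rw [hg]; group
    rw [e] at this
    exact this
  rw [hk] at h1
  have h2 : Pat c (xs i) := by
    have := Pat.map (MulAut.conj (c ^ k)⁻¹) h1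
    rw [MulAut.conj_apply, MulAut.conj_apply] at this
    have e1 : (c ^ k)⁻¹ * c * (c ^ k)⁻¹⁻¹ = c := by
      rw [inv_inv, mul_assoc, ← (Commute.pow_self c k).eq, ← mul_assoc, inv_mul_cancel, one_mul]
    have e2 : (c ^ k)⁻¹ * (c ^ k * xs i * (c ^ k)⁻¹) * (c ^ k)⁻¹⁻¹ = xs i := by group
    rw [e1, e2] at this
    exact this
  have hi0 : i = 0 := by
    by_contra h
    exact hP1 i hi h h2
  rw [hi0, hx0] at hk
  set h := (c ^ k)⁻¹ * g with hh
  have hhc : h * c = c * h := by
    rw [hh]
    calc (c ^ k)⁻¹ * g * c = (c ^ k)⁻¹ * (g * c) := by group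
      _ = (c ^ k)⁻¹ * (c * g) := by rw [hg]
      _ = c * ((c ^ k)⁻¹ * g) := by
        have : (c ^ k)⁻¹ * c = c * (c ^ k)⁻¹ := by
          rw [← zpow_natCast, ← zpow_neg]
          exact (Commute.zpow_left (Commute.refl c) _).eq
        rw [← mul_assoc, this, mul_assoc]
  have hhz : h * z = z * h := by
    have e : h * z * h⁻¹ = z := by
      rw [hh]
      calc (c ^ k)⁻¹ * g * z * ((c ^ k)⁻¹ * g)⁻¹ = (c ^ k)⁻¹ * (g * z * g⁻¹) * (c ^ k) := by group
        _ = z := by rw [hk]; group
    calc h * z = h * z * h⁻¹ * h := by group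
      _ = z * h := by rw [e]
  have hcentral : ∀ y : G, h * y = y * h := by
    intro y
    have hy : y ∈ Subgroup.closure ({c, z} : Set G) := by rw [hgen]; exact Subgroup.mem_top y
    induction hy using Subgroup.closure_induction with
    | mem s hs =>
      rcases hs with rfl | rfl
      · exact hhc
      · exact hhz
    | one => simp
    | mul a b _ _ ha hb => rw [← mul_assoc, ha, mul_assoc, hb, mul_assoc]
    | inv a _ ha =>
      calc h * a⁻¹ = a⁻¹ * (a * h) * a⁻¹ := by group
        _ = a⁻¹ * (h * a) * a⁻¹ := by rw [ha]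
        _ = a⁻¹ * h := by group
  have h1' := hcen h hcentral
  refine ⟨k, ?_⟩
  calc g = c ^ k * h := by rw [hh]; group
    _ = c ^ k := by rw [h1', mul_one]

/-- no element of the group cubes `c` -/
theorem not_conj_cube {G : Type*} [Group G] [Finite G] (c : G)
    (hcard : Nat.card G = 4030387200) (hc : orderOf c = 17)
    (hcent : ∀ g : G, g * c = c * g → ∃ k : ℕ, g = c ^ k) :
    ¬ ∃ g : G, g * c * g⁻¹ = c ^ 3 := by
  classical
  rintro ⟨g, hg⟩
  have : Fact (Nat.Prime 17) := ⟨by norm_num⟩
  have hfac : (Nat.card G).factorization 17 = 1 := by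
    rw [hcard]
    exact factorization_of_eq _ 17 1 237081600 (by norm_num) (by norm_num) (by norm_num)
  let H : Subgroup G := Subgroup.zpowers c
  have hH : Nat.card H = 17 := by rw [Nat.card_zpowers, hc]
  let P : Sylow 17 G := Sylow.ofCard H (by rw [hfac, pow_one]; exact hH)
  have hPH : (P : Subgroup G) = H := rfl
  have hidx := Sylow.card_eq_index_normalizer P
  have hmod := card_sylow_modEq_one 17 G
  rw [hidx] at hmod
  change (Subgroup.normalizer (H : Set G)).index ≡ 1 [MOD 17] at hmod
  -- the order of the normaliser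
  let N : Subgroup G := Subgroup.normalizer (H : Set G)
  let ψ : N →* MulAut H := Subgroup.normalizerMonoidHom H
  have hker : ψ.ker = (Subgroup.centralizer (H : Set G)).subgroupOf N :=
    Subgroup.normalizerMonoidHom_ker H
  have hcentH : Subgroup.centralizer (H : Set G) = H := by
    apply le_antisymm
    · intro x hx
      have hxc : x * c = c * x := by
        have := Subgroup.mem_centralizer_iff.mp hx c (Subgroup.mem_zpowers c)
        exact this.symm
      obtain ⟨k, rfl⟩ := hcent x hxc
      exact Subgroup.pow_mem _ (Subgroup.mem_zpowers c) k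
    · intro x hx
      rw [Subgroup.mem_centralizer_iff]
      intro y hy
      obtain ⟨a, rfl⟩ := Subgroup.mem_zpowers_iff.mp hx
      obtain ⟨b, rfl⟩ := Subgroup.mem_zpowers_iff.mp hy
      exact (Commute.zpow_zpow_self c b a).eq
  have hHN : H ≤ N := Subgroup.le_normalizer
  have hkercard : Nat.card ψ.ker = 17 := by
    rw [hker, hcentH, ← hH]
    exact Nat.card_congr (Subgroup.subgroupOfEquivOfLe hHN).toEquiv
  have hAut : Nat.card (MulAut H) = 16 := by
    have hcyc : IsCyclic H := by
      rw [show H = Subgroup.zpowers c from rfl]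
      infer_instance
    rw [IsCyclic.card_mulAut, hH]
    decide
  -- `g` is in the normaliser and its image has order 16
  have hgpow : ∀ n : ℕ, g ^ n * c * (g ^ n)⁻¹ = c ^ 3 ^ n := pow_conj_powr g c 3 hg
  have hgN : g ∈ N := by
    rw [Subgroup.mem_normalizer_iff]
    intro x
    have key : ∀ y : G, y ∈ H → g * y * g⁻¹ ∈ H := by
      intro y hy
      obtain ⟨a, rfl⟩ := Subgroup.mem_zpowers_iff.mp hy
      have : g * c ^ a * g⁻¹ = (g * c * g⁻¹) ^ a := by
        rw [conj_zpow]
      rw [this, hg]
      exact Subgroup.zpow_mem _ (Subgroup.pow_mem _ (Subgroup.mem_zpowers c) 3) a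
    constructor
    · exact key x
    · intro hx
      -- conjugation by `g` is injective on the finite set `H`
      have hinj : Function.Injective (fun y : H => (⟨g * y * g⁻¹, key y y.2⟩ : H)) := by
        intro a b hab
        have := congrArg Subtype.val hab
        apply Subtype.ext
        simpa using this
      have hsurj := Finite.surjective_of_injective hinj
      obtain ⟨y, hy⟩ := hsurj ⟨g * x * g⁻¹, hx⟩
      have := congrArg Subtype.val hy
      have e : (y : G) = x := by simpa using this
      rw [← e]; exact y.2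
  let gN : N := ⟨g, hgN⟩
  have hψ : ∀ n : ℕ, ((ψ gN) ^ n) ⟨c, Subgroup.mem_zpowers c⟩ =
      ⟨c ^ 3 ^ n, Subgroup.pow_mem _ (Subgroup.mem_zpowers c) _⟩ := by
    intro n
    rw [← map_pow]
    apply Subtype.ext
    show ((gN ^ n : N) : G) * c * ((gN ^ n : N) : G)⁻¹ = c ^ 3 ^ n
    rw [Subgroup.coe_pow]
    exact hgpow n
  have hord : orderOf (ψ gN) = 16 := by
    have hdvd : orderOf (ψ gN) ∣ 16 := by
      rw [← hAut]
      exact orderOf_dvd_natCard _
    have h8 : ¬ orderOf (ψ gN) ∣ 8 := by
      intro h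
      have h1 : (ψ gN) ^ 8 = 1 := orderOf_dvd_iff_pow_eq_one.mp h
      have h2 := hψ 8
      rw [h1, MulAut.one_apply] at h2
      have h3 : c = c ^ 3 ^ 8 := congrArg Subtype.val h2
      have h4 : c ^ 3 ^ 8 = c ^ 16 := by
        have := pow_mod_orderOf c (3 ^ 8)
        rw [hc] at this
        rw [← this]
        norm_num
      rw [h4] at h3
      have h5 : c ^ 15 = 1 := by
        have : c * c ^ 15 = c * 1 := by
          rw [← pow_succ', mul_one]; exact h3.symm
        exact mul_left_cancel this
      have := orderOf_dvd_of_pow_eq_one h5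
      rw [hc] at this
      norm_num at this
    have : orderOf (ψ gN) ∈ Nat.divisors 16 := by
      rw [Nat.mem_divisors]; exact ⟨hdvd, by norm_num⟩
    have hdiv : Nat.divisors 16 = {1, 2, 4, 8, 16} := by decide
    rw [hdiv] at this
    simp only [Finset.mem_insert, Finset.mem_singleton] at this
    rcases this with h | h | h | h | h
    · exfalso; apply h8; rw [h]; norm_num
    · exfalso; apply h8; rw [h]; norm_num
    · exfalso; apply h8; rw [h]; norm_num
    · exfalso; apply h8; rw [h]
    · exact h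
  have hrange : Nat.card ψ.range = 16 := by
    apply le_antisymm
    · rw [← hAut]
      exact Nat.card_le_card_of_injective _ (Subgroup.subtype_injective _)
    · have hmem : ψ gN ∈ ψ.range := ⟨gN, rfl⟩
      have h1 : orderOf (⟨ψ gN, hmem⟩ : ψ.range) = 16 := by
        rw [Subgroup.orderOf_mk, hord]
      have h2 := orderOf_dvd_natCard (⟨ψ gN, hmem⟩ : ψ.range)
      rw [h1] at h2
      exact Nat.le_of_dvd Nat.card_pos h2
  have hN : Nat.card N = 272 := by
    have h1 := Subgroup.card_mul_index ψ.ker
    rw [Subgroup.index_ker, hkercard, hrange] at h1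
    omega
  have h2 := Subgroup.card_mul_index N
  rw [hN, hcard] at h2
  have h3 : N.index = 14817600 := by omega
  change N.index ≡ 1 [MOD 17] at hmod
  rw [h3] at hmod
  unfold Nat.ModEq at hmod
  omega

end Cfsg.Agent.Lib.helper17.HeOut
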