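import Cfsg.Agent.Lib.helper17.HeOut.Abs2

set_option autoImplicit false

/-! The count of the outer automorphisms (helper17). -/

namespace Cfsg.Agent.Lib.helper17.HeOut

open Cfsg.Agent.Lib.helper4

theorem pat_of_conj_pow {G : Type*} [Group G] (c x : G) (r k : ℕ)
    (h : Pat (c ^ r) (c ^ k * x * (c ^ k)⁻¹)) : Pat (c ^ r) x := by
  have := Pat.map (MulAut.conj (c ^ k)⁻¹) h
  rw [MulAut.conj_apply, MulAut.conj_apply] at this
  have e1 : (c ^ k)⁻¹ * c ^ r * (c ^ k)⁻¹⁻¹ = c ^ r := by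
    rw [inv_inv, mul_assoc, ← (Commute.pow_pow_self c k r).eq, ← mul_assoc, inv_mul_cancel, one_mul]
  have e2 : (c ^ k)⁻¹ * (c ^ k * x * (c ^ k)⁻¹) * (c ^ k)⁻¹⁻¹ = x := by group
  rw [e1, e2] at this
  exact this

theorem out_card_two_main {G : Type*} [Group G] [Finite G] (c z u : G) (σ : MulAut G)
    (hcard : Nat.card G = 4030387200)
    (hcen : ∀ g : G, (∀ h : G, g * h = h * g) → g = 1)
    (hc : orderOf c = 17) (hu : u * c * u⁻¹ = c ^ 2)
    (hz : ∀ α : MulAut G, ∃ g : G, α z = g * z * g⁻¹)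
    (hgen : Subgroup.closure {c, z} = ⊤)
    (m : ℕ) (xs : ℕ → G) (hm : 0 < m) (hx0 : xs 0 = z)
    (hclos : ∀ i < m, ∀ j : ℕ, ∃ i' < m, ∃ k : ℕ,
      z * (c ^ j * xs i * (c ^ j)⁻¹) * z⁻¹ = c ^ k * xs i' * (c ^ k)⁻¹)
    (hPz : Pat c z) (hP1 : ∀ i < m, i ≠ 0 → ¬ Pat c (xs i))
    (i2 : ℕ) (hP3 : ∀ i < m, i ≠ i2 → ¬ Pat (c ^ 3) (xs i))
    (hσ : σ c = c ^ 3) : Nat.card (Cfsg.Out G) = 2 := by
  classical
  have hX := conj_mem_list c z hgen m xs hm hx0 hclos
  have hcent := centralizer_c c z hcen hgen m xs hx0 hX hPz hP1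
  have hnc := not_conj_cube c hcard hc hcent
  have hfac : (Nat.card G).factorization 17 = 1 := by
    rw [hcard]
    exact factorization_of_eq _ 17 1 237081600 (by norm_num) (by norm_num) (by norm_num)
  have hσinn : σ ∉ Cfsg.Inn G := by
    rintro ⟨g, hg⟩
    apply hnc
    refine ⟨g, ?_⟩
    rw [← hσ, ← hg, MulAut.conj_apply]
  -- every image of `z` under an automorphism is in the list
  have hlist : ∀ β : MulAut G, ∃ i < m, ∃ k : ℕ, β z = c ^ k * xs i * (c ^ k)⁻¹ := by
    intro β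
    obtain ⟨g, hg⟩ := hz β
    obtain ⟨i, hi, k, hk⟩ := hX g
    exact ⟨i, hi, k, by rw [hg, hk]⟩
  have hc1 : c ^ 1 = c := pow_one c
  -- the image of `z` under the given automorphism
  obtain ⟨iσ, hiσ, kσ, hkσ⟩ := hlist σ
  have hiσ2 : iσ = i2 := by
    by_contra h
    apply hP3 iσ hiσ h
    apply pat_of_conj_pow c (xs iσ) 3 kσ
    rw [← hkσ, ← hσ]
    exact Pat.map σ hPz
  have key : ∀ α : MulAut G, α ∈ Cfsg.Inn G ∨ ∃ ι ∈ Cfsg.Inn G, α = ι * σ := by
    intro α
    obtain ⟨g, hg⟩ := out_step_seventeen c u hfac hc hu α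
    set β : MulAut G := MulAut.conj g * α with hβ
    have hβc : β c = g * α c * g⁻¹ := by
      rw [hβ, MulAut.mul_apply, MulAut.conj_apply]
    obtain ⟨i, hi, k, hk⟩ := hlist β
    have hPβ : Pat (β c) (β z) := Pat.map β hPz
    rcases hg with hg | hg
    · have hβc' : β c = c := by rw [hβc, hg]
      rw [hβc', hk] at hPβ
      have h2 : Pat c (xs i) := by
        have := pat_of_conj_pow c (xs i) 1 k (by rw [hc1]; exact hPβ)
        rw [hc1] at this
        exact this
      have hi0 : i = 0 := by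
        by_contra h
        exact hP1 i hi h h2
      rw [hi0, hx0] at hk
      left
      set γ : MulAut G := MulAut.conj (c ^ k)⁻¹ * β with hγ
      have hγ1 : γ = 1 := by
        apply aut_eq_of_gen c z hgen
        · rw [hγ, MulAut.mul_apply, MulAut.conj_apply, hβc', MulAut.one_apply, inv_inv, mul_assoc,
            ← (Commute.pow_self c k).eq, ← mul_assoc, inv_mul_cancel, one_mul]
        · rw [hγ, MulAut.mul_apply, MulAut.conj_apply, hk, MulAut.one_apply]
          group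
      have hα : α = (MulAut.conj ((c ^ k)⁻¹ * g))⁻¹ := by
        apply eq_inv_of_mul_eq_one_right
        rw [map_mul, mul_assoc, ← hβ, ← hγ, hγ1]
      rw [hα]
      exact Subgroup.inv_mem _ ⟨_, rfl⟩
    · have hβc' : β c = c ^ 3 := by rw [hβc, hg]
      rw [hβc', hk] at hPβ
      have h2 : Pat (c ^ 3) (xs i) := pat_of_conj_pow c (xs i) 3 k hPβ
      have hi2 : i = i2 := by
        by_contra h
        exact hP3 i hi h h2
      right
      set d : G := c ^ kσ * (c ^ k)⁻¹ with hd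
      set γ : MulAut G := MulAut.conj d * β with hγ
      have hdc : d * c ^ 3 * d⁻¹ = c ^ 3 := by
        have h1 : Commute d (c ^ 3) := by
          rw [hd]
          exact ((Commute.pow_pow_self c kσ 3)).mul_left
            ((Commute.pow_pow_self c k 3).inv_left)
        rw [h1.eq]; group
      have hγσ : γ = σ := by
        apply aut_eq_of_gen c z hgen
        · rw [hγ, MulAut.mul_apply, MulAut.conj_apply, hβc', hσ, hdc]
        · rw [hγ, MulAut.mul_apply, MulAut.conj_apply, hk, hkσ, hi2, hiσ2, hd]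
          group
      refine ⟨(MulAut.conj (d * g))⁻¹, Subgroup.inv_mem _ ⟨_, rfl⟩, ?_⟩
      rw [eq_inv_mul_iff_mul_eq, map_mul, mul_assoc, ← hβ, ← hγ, hγσ]
  rw [Nat.card_eq_two_iff]
  refine ⟨((1 : MulAut G) : Cfsg.Out G), ((σ : MulAut G) : Cfsg.Out G), ?_, ?_⟩
  · intro h
    rw [QuotientGroup.eq, inv_one, one_mul] at h
    exact hσinn h
  · apply Set.eq_univ_of_forall
    intro q
    obtain ⟨α, rfl⟩ := QuotientGroup.mk_surjective q
    rcases key α with h | ⟨ι, hι, h⟩
    · left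
      symm
      rw [QuotientGroup.eq, inv_one, one_mul]
      exact h
    · right
      rw [Set.mem_singleton_iff]
      symm
      rw [QuotientGroup.eq, h]
      have : σ⁻¹ * (ι * σ) = σ⁻¹ * ι * σ := by group
      rw [this]
      exact (Cfsg.innNormal G).conj_mem' ι hι σ

end Cfsg.Agent.Lib.helper17.HeOut
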