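import Mathlib

set_option autoImplicit false

/-! A subgroup listed by its elements (helper17). -/

namespace Cfsg.Agent.Lib.helper17.HeOut

/-- a finite list of elements containing `1` and closed under multiplication on the left by the
generators is the subgroup generated -/
theorem enum_subgroup {G : Type*} [Group G] (gs : ℕ → G) (elt : ℕ → G) (n N : ℕ) (hN : 0 < N)
    (h0 : elt 0 = 1)
    (hmul : ∀ k < n, ∀ e < N, ∃ e' < N, gs k * elt e = elt e')
    (hinj : ∀ e1 < N, ∀ e2 < N, elt e1 = elt e2 → e1 = e2)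
    (hmem : ∀ e < N, elt e ∈ Subgroup.closure {x | ∃ k < n, x = gs k}) :
    (∀ x, x ∈ Subgroup.closure {x | ∃ k < n, x = gs k} ↔ ∃ e < N, x = elt e) ∧
      Nat.card (Subgroup.closure {x | ∃ k < n, x = gs k}) = N := by
  classical
  set S := Subgroup.closure {x | ∃ k < n, x = gs k} with hS
  let T : Set G := {x | ∃ e < N, x = elt e}
  have hTfin : T.Finite := by
    have : T ⊆ (fun e => elt e) '' (Set.Iio N) := by
      rintro x ⟨e, he, rfl⟩
      exact ⟨e, he, rfl⟩
    exact (Set.Finite.image _ (Set.finite_Iio N)).subset this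
  have hleft : ∀ k < n, ∀ y ∈ T, gs k * y ∈ T := by
    rintro k hk y ⟨e, he, rfl⟩
    obtain ⟨e', he', h⟩ := hmul k hk e he
    exact ⟨e', he', h⟩
  have hleftinv : ∀ k < n, ∀ y ∈ T, (gs k)⁻¹ * y ∈ T := by
    intro k hk y hy
    have : Finite T := hTfin
    let L : T → T := fun x => ⟨gs k * x.1, hleft k hk x.1 x.2⟩
    have hLinj : Function.Injective L := by
      intro a b hab
      have := congrArg Subtype.val hab
      apply Subtype.ext
      exact mul_left_cancel this
    obtain ⟨x, hx⟩ := (Finite.injective_iff_surjective.mp hLinj) ⟨y, hy⟩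
    have hx' : gs k * x.1 = y := congrArg Subtype.val hx
    have : (gs k)⁻¹ * y = x.1 := by rw [← hx']; group
    rw [this]; exact x.2
  have hST : ∀ x, x ∈ S → x ∈ T := by
    intro x hx
    induction hx using Subgroup.closure_induction_left with
    | one => exact ⟨0, hN, h0.symm⟩
    | mul_left x hx y _ ih =>
      obtain ⟨k, hk, rfl⟩ := hx
      exact hleft k hk y ih
    | inv_mul_cancel x hx y _ ih =>
      obtain ⟨k, hk, rfl⟩ := hx
      exact hleftinv k hk y ih
  have hiff : ∀ x, x ∈ S ↔ ∃ e < N, x = elt e := by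
    intro x
    constructor
    · exact hST x
    · rintro ⟨e, he, rfl⟩
      exact hmem e he
  refine ⟨hiff, ?_⟩
  have hbij : Function.Bijective (fun e : Fin N => (⟨elt e.1, hmem e.1 e.2⟩ : S)) := by
    constructor
    · intro a b hab
      have := congrArg Subtype.val hab
      exact Fin.ext (hinj a.1 a.2 b.1 b.2 this)
    · rintro ⟨x, hx⟩
      obtain ⟨e, he, rfl⟩ := hST x hx
      exact ⟨⟨e, he⟩, rfl⟩
  rw [← Nat.card_congr (Equiv.ofBijective _ hbij), Nat.card_fin]

end Cfsg.Agent.Lib.helper17.HeOut
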