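import Cfsg.Agent.Lib.helper17.HeOut.Data1

set_option autoImplicit false
set_option maxRecDepth 100000

/-! the coded permutations are the products of their words (generated, helper17) -/

namespace Cfsg.Agent.Lib.helper17.HeOut

open Cfsg.Agent.Lib.Helper12.TC

theorem chk7 : eqW T7 [T1, T2, T3, T5] = true := by decide +kernel

theorem chk8 : eqW T8 [T7, T7] = true := by decide +kernel

theorem chk9 : eqW T9 [T8, T7] = true := by decide +kernel

theorem chk10 : eqW T10 [T9, T7] = true := by decide +kernel

theorem chk11 : eqW T11 [T10, T7] = true := by decide +kernel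

theorem chk12 : eqW T12 [T11, T7] = true := by decide +kernel

theorem chk13 : eqW T13 [T12, T7] = true := by decide +kernel

theorem chk14 : eqW T14 [T13, T7] = true := by decide +kernel

theorem chk15 : eqW T15 [T14, T7] = true := by decide +kernel

theorem chk16 : eqW T16 [T15, T7] = true := by decide +kernel

theorem chk17 : eqW T17 [T16, T7] = true := by decide +kernel

theorem chk18 : eqW T18 [T17, T7] = true := by decide +kernel

theorem chk19 : eqW T19 [T18, T7] = true := by decide +kernel

theorem chk20 : eqW T20 [T19, T7] = true := by decide +kernel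

theorem chk21 : eqW T21 [T20, T7] = true := by decide +kernel

theorem chk22 : eqW T22 [T21, T7] = true := by decide +kernel

theorem chk23 : eqW T23 [T3, T6, T5, T2, T3, T2, T3, T6, T2, T3, T5, T1, T2, T3, T2, T1, T5, T3, T2, T6, T3, T2, T3, T2, T5, T6, T3] = true := by decide +kernel


end Cfsg.Agent.Lib.helper17.HeOut
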