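import Cfsg.Agent.Lib.helper17.HeOut.Data1

set_option autoImplicit false
set_option maxRecDepth 100000

/-! the coded permutations are the products of their words (generated, helper17) -/

namespace Cfsg.Agent.Lib.helper17.HeOut

open Cfsg.Agent.Lib.Helper12.TC

theorem chk24 : eqW T24 [T20, T23, T20, T23, T18, T23, T21, T14, T23, T9, T23, T9, T23, T9] = true := by decide +kernel

theorem chk25 : eqW T25 [T20, T23, T20, T23, T20, T23, T15, T8, T23, T11, T23, T9, T23, T9] = true := by decide +kernel

theorem chk26 : eqW T26 [T22, T23, T17, T23, T20, T23, T14, T23, T10, T23, T9, T23, T9, T23, T9] = true := by decide +kernel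

theorem chk27 : eqW T27 [T20, T23, T20, T23, T20, T23, T19, T23, T15, T23, T9, T23, T12, T23, T7] = true := by decide +kernel

theorem chk28 : eqW T28 [T24, T26, T26, T24, T24, T26, T25, T25, T26, T25, T26, T26, T24, T26, T26] = true := by decide +kernel

theorem chk29 : eqW T29 [T27, T27, T25, T27, T27, T24, T27, T24, T24, T27, T25, T25, T27, T27, T25] = true := by decide +kernel

theorem chk30 : eqW T30 [T25, T26, T26, T25, T27, T25, T27, T25, T26, T24, T27, T25, T25, T27, T24, T24] = true := by decide +kernel

theorem chk31 : eqW T31 [T25, T25, T26, T24, T24, T26, T25, T27, T24, T26, T24, T26, T24, T27, T27, T24] = true := by decide +kernel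

theorem chk32 : eqW T32 [T26, T24, T26, T25, T25, T25, T25, T26, T24, T26, T24, T26, T26, T24] = true := by decide +kernel

theorem chk33 : eqW T33 [T25, T27, T27, T25, T27, T25, T27, T24, T24, T24, T24, T27, T25, T27] = true := by decide +kernel

theorem chk34 : eqW T34 [T32, T31, T32, T28, T28, T32, T30, T29, T33] = true := by decide +kernel

theorem chk35 : eqW T35 [T32, T28, T31, T33, T29, T29, T33, T30, T33] = true := by decide +kernel

theorem chk36 : eqW T36 [T33, T29, T32, T30, T30, T32, T28, T31] = true := by decide +kernel

theorem chk37 : eqW T37 [T30, T29, T33, T31, T31, T33, T28, T32] = true := by decide +kernel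

theorem chk38 : eqW T38 [T17, T23, T14, T23, T13, T23, T24, T26, T24, T26, T26, T24, T33, T30, T29, T36] = true := by decide +kernel

theorem chk39 : eqW T39 [T13, T23, T18, T26, T26, T25, T26, T24, T26, T26, T28, T32, T30, T29, T31, T36, T34] = true := by decide +kernel


end Cfsg.Agent.Lib.helper17.HeOut
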