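import Cfsg.Agent.Lib.helper17.HeOut.Data1

set_option autoImplicit false
set_option maxRecDepth 100000

/-! the coded permutations are the products of their words (generated, helper17) -/

namespace Cfsg.Agent.Lib.helper17.HeOut

open Cfsg.Agent.Lib.Helper12.TC

theorem chk40 : eqW T40 [T9, T23, T14, T23, T7, T24, T26, T26, T25, T25, T25, T26, T31, T32, T29, T33, T28, T34] = true := by decide +kernel

theorem chk41 : eqW T41 [T8, T23, T11, T23, T10, T24, T24, T24, T27, T27, T27, T28, T28, T31, T36] = true := by decide +kernel

theorem chk42 : eqW T42 [T23, T21, T23, T13, T23, T10, T26, T24, T28, T32, T30, T32, T28, T34] = true := by decide +kernel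

theorem chk43 : eqW T43 [T16, T23, T10, T23, T9, T26, T24, T26, T24, T26, T25, T28, T32, T28, T28, T34] = true := by decide +kernel

theorem chk44 : eqW T44 [T18, T23, T20, T23, T27, T25, T25, T27, T27, T32, T30, T32, T30, T36] = true := by decide +kernel

theorem chk45 : eqW T45 [T14, T23, T9, T23, T13, T23, T10, T25, T25, T25, T26, T24, T29, T33, T30, T28, T28, T34] = true := by decide +kernel

theorem chk46 : eqW T46 [T23, T18, T23, T12, T24, T27, T27, T27, T25, T25, T32, T30, T28, T31, T36] = true := by decide +kernel

theorem chk47 : eqW T47 [T14, T23, T14, T23, T19, T23, T8, T24, T26, T25, T27, T27, T25, T28, T32, T28, T30, T36, T34] = true := by decide +kernel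

theorem chk48 : eqW T48 [T14, T23, T16, T23, T10, T23, T9, T25, T26, T26, T24, T24, T27, T30, T33, T31, T34] = true := by decide +kernel

theorem chk49 : eqW T49 [T8, T23, T13, T23, T21, T23, T7, T25, T26, T26, T25, T27, T25, T25, T30, T36, T34] = true := by decide +kernel

theorem chk50 : eqW T50 [T23, T24, T26, T25, T25, T26, T24, T33, T29, T30, T34] = true := by decide +kernel

theorem chk51 : eqW T51 [T16, T23, T14, T23, T19, T23, T8, T25, T25, T27, T24, T27, T27, T29, T31, T32, T29] = true := by decide +kernel

theorem chk52 : eqW T52 [T23, T17, T23, T9, T23, T19, T25, T25, T26, T28, T32, T32, T28] = true := by decide +kernel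

theorem chk53 : eqW T53 [T14, T23, T16, T23, T10, T23, T9, T27, T24, T24, T24, T24, T26, T28, T28, T30, T28, T30, T36] = true := by decide +kernel

theorem chk54 : eqW T54 [T26, T25, T25, T27, T27, T25, T26, T24, T30, T28, T34] = true := by decide +kernel


end Cfsg.Agent.Lib.helper17.HeOut
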