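import Cfsg.Agent.Lib.helper17.HeOut.ClosData

set_option autoImplicit false
set_option maxRecDepth 100000

/-! the order pattern of `c` (generated, helper17) -/

namespace Cfsg.Agent.Lib.helper17.HeOut

open Cfsg.Agent.Lib.Helper12.TC

theorem pat1 : patAll EW PW1 1 3 6 4 0 = true := by decide +kernel


end Cfsg.Agent.Lib.helper17.HeOut
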