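import Cfsg.Agent.Lib.helper17.HeOut.ClosSound
import Cfsg.Agent.Lib.helper17.HeOut.ClosR0
import Cfsg.Agent.Lib.helper17.HeOut.ClosR1
import Cfsg.Agent.Lib.helper17.HeOut.ClosR2
import Cfsg.Agent.Lib.helper17.HeOut.ClosR3
import Cfsg.Agent.Lib.helper17.HeOut.ClosR4
import Cfsg.Agent.Lib.helper17.HeOut.ClosR5
import Cfsg.Agent.Lib.helper17.HeOut.ClosR6
import Cfsg.Agent.Lib.helper17.HeOut.ClosR7
import Cfsg.Agent.Lib.helper17.HeOut.ClosR8
import Cfsg.Agent.Lib.helper17.HeOut.ClosR9
import Cfsg.Agent.Lib.helper17.HeOut.ClosR10
import Cfsg.Agent.Lib.helper17.HeOut.ClosR11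
import Cfsg.Agent.Lib.helper17.HeOut.ClosR12
import Cfsg.Agent.Lib.helper17.HeOut.ClosR13
import Cfsg.Agent.Lib.helper17.HeOut.ClosR14
import Cfsg.Agent.Lib.helper17.HeOut.ClosR15
import Cfsg.Agent.Lib.helper17.HeOut.PatC1
import Cfsg.Agent.Lib.helper17.HeOut.PatC3

set_option autoImplicit false
set_option maxRecDepth 100000

/-! the conjugation table: all rows (generated, helper17) -/

namespace Cfsg.Agent.Lib.helper17.HeOut

open Cfsg.Agent.Lib.Helper12.TC

theorem clos_all (i : ℕ) (hi : i < 11025) (j : ℕ) :
    ∃ i' < 11025, ∃ k : ℕ,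
      zz * (cc ^ j * xs i * (cc ^ j)⁻¹) * zz⁻¹ = cc ^ k * xs i' * (cc ^ k)⁻¹ := by
  rw [cc_pow_mod j]
  have hj : j % 17 < 17 := Nat.mod_lt _ (by norm_num)
  have hrow : ∃ r, closRow EW r i = true := by
    by_cases h0 : i < 690
    · have := closChunk_sound EW rows0 0 clos0 (i - 0) (by rw [rows0_length]; omega)
      have e : 0 + (i - 0) = i := by omega
      rw [e] at this
      exact ⟨_, this⟩
    by_cases h1 : i < 1380
    · have := closChunk_sound EW rows1 690 clos1 (i - 690) (by rw [rows1_length]; omega)
      have e : 690 + (i - 690) = i := by omega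
      rw [e] at this
      exact ⟨_, this⟩
    by_cases h2 : i < 2070
    · have := closChunk_sound EW rows2 1380 clos2 (i - 1380) (by rw [rows2_length]; omega)
      have e : 1380 + (i - 1380) = i := by omega
      rw [e] at this
      exact ⟨_, this⟩
    by_cases h3 : i < 2760
    · have := closChunk_sound EW rows3 2070 clos3 (i - 2070) (by rw [rows3_length]; omega)
      have e : 2070 + (i - 2070) = i := by omega
      rw [e] at this
      exact ⟨_, this⟩
    by_cases h4 : i < 3450
    · have := closChunk_sound EW rows4 2760 clos4 (i - 2760) (by rw [rows4_length]; omega)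
      have e : 2760 + (i - 2760) = i := by omega
      rw [e] at this
      exact ⟨_, this⟩
    by_cases h5 : i < 4140
    · have := closChunk_sound EW rows5 3450 clos5 (i - 3450) (by rw [rows5_length]; omega)
      have e : 3450 + (i - 3450) = i := by omega
      rw [e] at this
      exact ⟨_, this⟩
    by_cases h6 : i < 4830
    · have := closChunk_sound EW rows6 4140 clos6 (i - 4140) (by rw [rows6_length]; omega)
      have e : 4140 + (i - 4140) = i := by omega
      rw [e] at this
      exact ⟨_, this⟩
    by_cases h7 : i < 5520
    · have := closChunk_sound EW rows7 4830 clos7 (i - 4830) (by rw [rows7_length]; omega)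
      have e : 4830 + (i - 4830) = i := by omega
      rw [e] at this
      exact ⟨_, this⟩
    by_cases h8 : i < 6210
    · have := closChunk_sound EW rows8 5520 clos8 (i - 5520) (by rw [rows8_length]; omega)
      have e : 5520 + (i - 5520) = i := by omega
      rw [e] at this
      exact ⟨_, this⟩
    by_cases h9 : i < 6900
    · have := closChunk_sound EW rows9 6210 clos9 (i - 6210) (by rw [rows9_length]; omega)
      have e : 6210 + (i - 6210) = i := by omega
      rw [e] at this
      exact ⟨_, this⟩
    by_cases h10 : i < 7590
    · have := closChunk_sound EW rows10 6900 clos10 (i - 6900) (by rw [rows10_length]; omega)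
      have e : 6900 + (i - 6900) = i := by omega
      rw [e] at this
      exact ⟨_, this⟩
    by_cases h11 : i < 8280
    · have := closChunk_sound EW rows11 7590 clos11 (i - 7590) (by rw [rows11_length]; omega)
      have e : 7590 + (i - 7590) = i := by omega
      rw [e] at this
      exact ⟨_, this⟩
    by_cases h12 : i < 8970
    · have := closChunk_sound EW rows12 8280 clos12 (i - 8280) (by rw [rows12_length]; omega)
      have e : 8280 + (i - 8280) = i := by omega
      rw [e] at this
      exact ⟨_, this⟩
    by_cases h13 : i < 9660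
    · have := closChunk_sound EW rows13 8970 clos13 (i - 8970) (by rw [rows13_length]; omega)
      have e : 8970 + (i - 8970) = i := by omega
      rw [e] at this
      exact ⟨_, this⟩
    by_cases h14 : i < 10350
    · have := closChunk_sound EW rows14 9660 clos14 (i - 9660) (by rw [rows14_length]; omega)
      have e : 9660 + (i - 9660) = i := by omega
      rw [e] at this
      exact ⟨_, this⟩
    by_cases h15 : i < 11025
    · have := closChunk_sound EW rows15 10350 clos15 (i - 10350) (by rw [rows15_length]; omega)
      have e : 10350 + (i - 10350) = i := by omega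
      rw [e] at this
      exact ⟨_, this⟩
    omega
  obtain ⟨r, hr⟩ := hrow
  exact closRow_sound r i hr (j % 17) hj

end Cfsg.Agent.Lib.helper17.HeOut
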