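import Cfsg.Agent.Lib.helper17.HeOut.Data1

set_option autoImplicit false

/-! The conjugates of the involution, listed as orbits of the element of order 17: the tests run by
the kernel (helper17). -/

namespace Cfsg.Agent.Lib.helper17.HeOut

open Cfsg.Agent.Lib.Helper12.TC

/-- the coded powers of the element of order 17 -/
def tabsC : List ℕ :=
  [Tid, T7, T8, T9, T10, T11, T12, T13, T14, T15, T16, T17, T18, T19, T20, T21, T22]

/-- the coded inverses of the powers of the element of order 17 -/
def tabsCI : List ℕ :=
  [Tid, T22, T21, T20, T19, T18, T17, T16, T15, T14, T13, T12, T11, T10, T9, T8, T7]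

/-- the coded power `c ^ (a % 17)` -/
def Tcp (a : ℕ) : ℕ := nthK tabsC (Nat.mod a 17)

/-- the coded power `c ^ (17 - a % 17)` -/
def TcpI (a : ℕ) : ℕ := nthK tabsCI (Nat.mod a 17)

/-- the image of a point under the representative with the packed word `E` (five bits for each
exponent plus one, the outermost first): `x = z c^a x' c^-a z` -/
def evX (f : ℕ) : ℕ → ℕ → ℕ :=
  @Nat.rec (fun _ => ℕ → ℕ → ℕ) (fun _ p => lk T23 p)
    (fun _ ih E p => forceN E fun E' =>
      @Nat.rec (fun _ => ℕ) (lk T23 p)
        (fun a _ => lk T23 (lk (Tcp a) (ih (Nat.shiftRight E' 5) (lk (TcpI a) (lk T23 p)))))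
        (Nat.land E' 31)) f

theorem evX_zero (E p : ℕ) : evX 0 E p = lk T23 p := rfl

theorem evX_succ (f E p : ℕ) : evX (f + 1) E p =
    @Nat.rec (fun _ => ℕ) (lk T23 p)
      (fun a _ => lk T23 (lk (Tcp a) (evX f (Nat.shiftRight E 5) (lk (TcpI a) (lk T23 p)))))
      (Nat.land E 31) := by
  have h : evX (f + 1) E p = forceN E (fun E' =>
      @Nat.rec (fun _ => ℕ) (lk T23 p)
        (fun a _ => lk T23 (lk (Tcp a) (evX f (Nat.shiftRight E' 5) (lk (TcpI a) (lk T23 p)))))
        (Nat.land E' 31)) := rfl
  rw [h, forceN_eq]

/-- the four points of the base -/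
def baseB : List ℕ := [0, 11, 4, 6]

/-- the test of a row: `r` holds the seventeen entries `(i', k)` of the representative `i`, twenty bits
each; `EW` holds the packed words, thirty bits each -/
def closRow (EW r i : ℕ) : Bool :=
  forceN (Nat.land (Nat.shiftRight EW (Nat.mul 30 i)) 1073741823) fun Ei =>
    allBelowK 17 fun j =>
      forceN (Nat.land (Nat.shiftRight r (Nat.mul 20 j)) 1048575) fun e =>
        forceN (Nat.shiftRight e 5) fun i' =>
          forceN (Nat.land (Nat.shiftRight EW (Nat.mul 30 i')) 1073741823) fun Ei' =>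
            forceN (Nat.land e 31) fun k =>
              Nat.blt i' 11025 &&
                allListK baseB fun b =>
                  Nat.beq (evX 6 Ei' b)
                    (lk (TcpI k) (lk T23 (lk (Tcp j) (evX 6 Ei (lk (TcpI j) (lk T23 (lk (Tcp k) b)))))))

/-- the test of a list of rows from the representative `i0` on -/
def closChunk (EW : ℕ) (rows : List ℕ) (i0 : ℕ) : Bool :=
  @List.rec ℕ (fun _ => ℕ → Bool) (fun _ => true)
    (fun r _ ih i => cond (closRow EW r i) (forceN (Nat.succ i) ih) false) rows i0

theorem closChunk_nil (EW i0 : ℕ) : closChunk EW [] i0 = true := rfl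

theorem closChunk_cons (EW r : ℕ) (rows : List ℕ) (i0 : ℕ) :
    closChunk EW (r :: rows) i0 = cond (closRow EW r i0) (closChunk EW rows (i0 + 1)) false := by
  show cond (closRow EW r i0) (forceN (Nat.succ i0) (closChunk EW rows)) false = _
  rw [forceN_eq]

theorem closChunk_sound (EW : ℕ) (rows : List ℕ) (i0 : ℕ) (h : closChunk EW rows i0 = true) :
    ∀ t (ht : t < rows.length), closRow EW rows[t] (i0 + t) = true := by
  induction rows generalizing i0 with
  | nil => intro t ht; simp at ht
  | cons r rows ih =>
    rw [closChunk_cons] at h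
    cases hr : closRow EW r i0 with
    | false => rw [hr] at h; exact absurd h (by simp)
    | true =>
      rw [hr, cond_true] at h
      intro t ht
      cases t with
      | zero => simpa using hr
      | succ t =>
        have := ih (i0 + 1) h t (by simpa using ht)
        simpa [Nat.add_assoc, Nat.add_comm 1 t] using this

/-- the test of the order pattern: the witness of the representative `i` is a point moved by
`(c^e1 x)^n1` (type 0) or by `(c^e2 x)^n2` (type 1) -/
def patRow (EW PW e1 n1 e2 n2 i : ℕ) : Bool :=
  forceN (Nat.land (Nat.shiftRight EW (Nat.mul 30 i)) 1073741823) fun Ei =>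
    forceN (Nat.land (Nat.shiftRight PW (Nat.mul 13 i)) 8191) fun w =>
      forceN (Nat.land w 4095) fun p =>
        Nat.blt p 2058 &&
        cond (Nat.beq (Nat.shiftRight w 12) 0)
          (cond (Nat.beq (@Nat.rec (fun _ => ℕ) p (fun _ q => lk (Tcp e1) (evX 6 Ei q)) n1) p) false true)
          (cond (Nat.beq (@Nat.rec (fun _ => ℕ) p (fun _ q => lk (Tcp e2) (evX 6 Ei q)) n2) p) false true)

/-- the test of the order pattern for all representatives except `skip` -/
def patAll (EW PW e1 n1 e2 n2 skip : ℕ) : Bool :=
  allBelowK 11025 fun i => cond (Nat.beq i skip) true (patRow EW PW e1 n1 e2 n2 i)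

end Cfsg.Agent.Lib.helper17.HeOut
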