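import Cfsg.Agent.Lib.helper17.HeOut.Chain
import Cfsg.Agent.Lib.helper17.HeOut.ClosData

set_option autoImplicit false
set_option maxRecDepth 100000

/-! the meaning of the tests of the conjugation table (generated, helper17) -/

namespace Cfsg.Agent.Lib.helper17.HeOut

open Cfsg.Agent.Lib.Helper12.TC

/-- the element of order 17 -/
noncomputable def cc : Cfsg.Spor.He := e7

/-- the 2-central involution -/
noncomputable def zz : Cfsg.Spor.He := e23

theorem chk_c17 : eqWW [T22, T7] [] = true := by decide +kernel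

theorem chk_z2 : eqWW [T23, T23] [] = true := by decide +kernel

theorem chk_id : eqW Tid [] = true := by decide +kernel

theorem eq_of_eqWW (w v : List ℕ) (gs hs : List Cfsg.Spor.He)
    (h1 : List.Forall₂ (fun T g => Rep T (rho g)) w gs)
    (h2 : List.Forall₂ (fun T g => Rep T (rho g)) v hs) (h : eqWW w v = true) :
    gs.prod = hs.prod := by
  apply rho_injective
  rw [map_list_prod, map_list_prod]
  apply prod_eq_of_eqWW w v _ _ _ _ h
  · rw [List.forall₂_map_right_iff]; exact h1
  · rw [List.forall₂_map_right_iff]; exact h2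

theorem e7_pow : e7 = cc ^ 1 := by rw [pow_one, cc]

theorem e8_pow : e8 = cc ^ 2 := by
  rw [e8, List.prod_cons, List.prod_singleton]
  show cc * cc = cc ^ (1 + 1)
  rw [pow_succ, pow_one]

theorem e9_pow : e9 = cc ^ 3 := by
  rw [e9, List.prod_cons, List.prod_singleton, e8_pow]
  exact (pow_succ cc 2).symm

theorem e10_pow : e10 = cc ^ 4 := by
  rw [e10, List.prod_cons, List.prod_singleton, e9_pow]
  exact (pow_succ cc 3).symm

theorem e11_pow : e11 = cc ^ 5 := by
  rw [e11, List.prod_cons, List.prod_singleton, e10_pow]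
  exact (pow_succ cc 4).symm

theorem e12_pow : e12 = cc ^ 6 := by
  rw [e12, List.prod_cons, List.prod_singleton, e11_pow]
  exact (pow_succ cc 5).symm

theorem e13_pow : e13 = cc ^ 7 := by
  rw [e13, List.prod_cons, List.prod_singleton, e12_pow]
  exact (pow_succ cc 6).symm

theorem e14_pow : e14 = cc ^ 8 := by
  rw [e14, List.prod_cons, List.prod_singleton, e13_pow]
  exact (pow_succ cc 7).symm

theorem e15_pow : e15 = cc ^ 9 := by
  rw [e15, List.prod_cons, List.prod_singleton, e14_pow]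
  exact (pow_succ cc 8).symm

theorem e16_pow : e16 = cc ^ 10 := by
  rw [e16, List.prod_cons, List.prod_singleton, e15_pow]
  exact (pow_succ cc 9).symm

theorem e17_pow : e17 = cc ^ 11 := by
  rw [e17, List.prod_cons, List.prod_singleton, e16_pow]
  exact (pow_succ cc 10).symm

theorem e18_pow : e18 = cc ^ 12 := by
  rw [e18, List.prod_cons, List.prod_singleton, e17_pow]
  exact (pow_succ cc 11).symm

theorem e19_pow : e19 = cc ^ 13 := by
  rw [e19, List.prod_cons, List.prod_singleton, e18_pow]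
  exact (pow_succ cc 12).symm

theorem e20_pow : e20 = cc ^ 14 := by
  rw [e20, List.prod_cons, List.prod_singleton, e19_pow]
  exact (pow_succ cc 13).symm

theorem e21_pow : e21 = cc ^ 15 := by
  rw [e21, List.prod_cons, List.prod_singleton, e20_pow]
  exact (pow_succ cc 14).symm

theorem e22_pow : e22 = cc ^ 16 := by
  rw [e22, List.prod_cons, List.prod_singleton, e21_pow]
  exact (pow_succ cc 15).symm

theorem cc_pow17 : cc ^ 17 = 1 := by
  have := eq_of_eqWW [T22, T7] [] [e22, e7] []
    (List.Forall₂.cons rep22 (List.Forall₂.cons rep7 List.Forall₂.nil)) List.Forall₂.nil chk_c17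
  rw [List.prod_cons, List.prod_singleton, List.prod_nil, e22_pow] at this
  rw [pow_succ]
  exact this

theorem zz_sq : zz * zz = 1 := by
  have := eq_of_eqWW [T23, T23] [] [e23, e23] []
    (List.Forall₂.cons rep23 (List.Forall₂.cons rep23 List.Forall₂.nil)) List.Forall₂.nil chk_z2
  rw [List.prod_cons, List.prod_singleton, List.prod_nil] at this
  exact this

theorem zz_inv : zz⁻¹ = zz := inv_eq_of_mul_eq_one_right zz_sq

theorem cc_pow_mod (j : ℕ) : cc ^ j = cc ^ (j % 17) := pow_eq_pow_mod j cc_pow17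

theorem cc_pow_inv (a : ℕ) (ha : a ≤ 17) : cc ^ (17 - a) = (cc ^ a)⁻¹ := by
  apply eq_inv_of_mul_eq_one_left
  rw [← pow_add, Nat.sub_add_cancel ha, cc_pow17]

theorem repC (a : ℕ) (ha : a < 17) : Rep (nthK tabsC a) (rho (cc ^ a)) := by
  interval_cases a
  · show Rep Tid (rho (cc ^ 0))
    rw [pow_zero, map_one]
    exact rep_one_of Tid chk_id
  · show Rep T7 (rho (cc ^ 1))
    rw [← e7_pow]; exact rep7
  · show Rep T8 (rho (cc ^ 2))
    rw [← e8_pow]; exact rep8
  · show Rep T9 (rho (cc ^ 3))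
    rw [← e9_pow]; exact rep9
  · show Rep T10 (rho (cc ^ 4))
    rw [← e10_pow]; exact rep10
  · show Rep T11 (rho (cc ^ 5))
    rw [← e11_pow]; exact rep11
  · show Rep T12 (rho (cc ^ 6))
    rw [← e12_pow]; exact rep12
  · show Rep T13 (rho (cc ^ 7))
    rw [← e13_pow]; exact rep13
  · show Rep T14 (rho (cc ^ 8))
    rw [← e14_pow]; exact rep14
  · show Rep T15 (rho (cc ^ 9))
    rw [← e15_pow]; exact rep15
  · show Rep T16 (rho (cc ^ 10))
    rw [← e16_pow]; exact rep16
  · show Rep T17 (rho (cc ^ 11))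
    rw [← e17_pow]; exact rep17
  · show Rep T18 (rho (cc ^ 12))
    rw [← e18_pow]; exact rep18
  · show Rep T19 (rho (cc ^ 13))
    rw [← e19_pow]; exact rep19
  · show Rep T20 (rho (cc ^ 14))
    rw [← e20_pow]; exact rep20
  · show Rep T21 (rho (cc ^ 15))
    rw [← e21_pow]; exact rep21
  · show Rep T22 (rho (cc ^ 16))
    rw [← e22_pow]; exact rep22

theorem repCI (a : ℕ) (ha : a < 17) : Rep (nthK tabsCI a) (rho (cc ^ (17 - a))) := by
  interval_cases a
  · show Rep Tid (rho (cc ^ 17))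
    rw [cc_pow17, map_one]
    exact rep_one_of Tid chk_id
  · show Rep T22 (rho (cc ^ 16))
    rw [← e22_pow]; exact rep22
  · show Rep T21 (rho (cc ^ 15))
    rw [← e21_pow]; exact rep21
  · show Rep T20 (rho (cc ^ 14))
    rw [← e20_pow]; exact rep20
  · show Rep T19 (rho (cc ^ 13))
    rw [← e19_pow]; exact rep19
  · show Rep T18 (rho (cc ^ 12))
    rw [← e18_pow]; exact rep18
  · show Rep T17 (rho (cc ^ 11))
    rw [← e17_pow]; exact rep17
  · show Rep T16 (rho (cc ^ 10))
    rw [← e16_pow]; exact rep16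
  · show Rep T15 (rho (cc ^ 9))
    rw [← e15_pow]; exact rep15
  · show Rep T14 (rho (cc ^ 8))
    rw [← e14_pow]; exact rep14
  · show Rep T13 (rho (cc ^ 7))
    rw [← e13_pow]; exact rep13
  · show Rep T12 (rho (cc ^ 6))
    rw [← e12_pow]; exact rep12
  · show Rep T11 (rho (cc ^ 5))
    rw [← e11_pow]; exact rep11
  · show Rep T10 (rho (cc ^ 4))
    rw [← e10_pow]; exact rep10
  · show Rep T9 (rho (cc ^ 3))
    rw [← e9_pow]; exact rep9
  · show Rep T8 (rho (cc ^ 2))
    rw [← e8_pow]; exact rep8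
  · show Rep T7 (rho (cc ^ 1))
    rw [← e7_pow]; exact rep7

theorem repTcp (a : ℕ) : Rep (Tcp a) (rho (cc ^ (a % 17))) := repC (a % 17) (Nat.mod_lt _ (by norm_num))

theorem repTcpI (a : ℕ) : Rep (TcpI a) (rho (cc ^ (17 - a % 17))) :=
  repCI (a % 17) (Nat.mod_lt _ (by norm_num))

/-- the element of He with the packed word `E` -/
noncomputable def evG : ℕ → ℕ → Cfsg.Spor.He
  | 0, _ => zz
  | f + 1, E => @Nat.rec (fun _ => Cfsg.Spor.He) zz
      (fun a _ => zz * cc ^ (a % 17) * evG f (Nat.shiftRight E 5) * cc ^ (17 - a % 17) * zz)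
      (Nat.land E 31)

theorem evX_sound (f E : ℕ) (p : Fin 2058) : (rho (evG f E) p).1 = evX f E p.1 := by
  induction f generalizing E p with
  | zero => exact rep23 p
  | succ f ih =>
    rw [evX_succ]
    show (rho (@Nat.rec (fun _ => Cfsg.Spor.He) zz
      (fun a _ => zz * cc ^ (a % 17) * evG f (Nat.shiftRight E 5) * cc ^ (17 - a % 17) * zz)
      (Nat.land E 31)) p).1 = _
    cases Nat.land E 31 with
    | zero => exact rep23 p
    | succ a =>
      show (rho (zz * cc ^ (a % 17) * evG f (Nat.shiftRight E 5) * cc ^ (17 - a % 17) * zz) p).1 =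
        lk T23 (lk (Tcp a) (evX f (Nat.shiftRight E 5) (lk (TcpI a) (lk T23 p.1))))
      rw [map_mul, map_mul, map_mul, map_mul, Equiv.Perm.mul_apply, Equiv.Perm.mul_apply,
        Equiv.Perm.mul_apply, Equiv.Perm.mul_apply]
      rw [show zz = e23 from rfl, rep23, repTcp a, ih, repTcpI a, rep23]

/-- the packed word of the representative `i` -/
def Eof (i : ℕ) : ℕ := Nat.land (Nat.shiftRight EW (Nat.mul 30 i)) 1073741823

/-- the representatives of the orbits of the element of order 17 on the conjugates of the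
involution -/
noncomputable def xs (i : ℕ) : Cfsg.Spor.He := evG 6 (Eof i)

theorem xs_zero : xs 0 = zz := by
  have h : Eof 0 = 0 := by decide +kernel
  rw [xs, h]
  rfl

theorem closRow_sound (r i : ℕ) (h : closRow EW r i = true) (j : ℕ) (hj : j < 17) :
    ∃ i' < 11025, ∃ k : ℕ,
      zz * (cc ^ j * xs i * (cc ^ j)⁻¹) * zz⁻¹ = cc ^ k * xs i' * (cc ^ k)⁻¹ := by
  unfold closRow at h
  rw [forceN_eq, allBelowK_iff] at h
  have hj' := h j hj
  rw [forceN_eq, forceN_eq, forceN_eq, forceN_eq, Bool.and_eq_true, allListK_iff] at hj'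
  obtain ⟨hi', hb⟩ := hj'
  set e := Nat.land (Nat.shiftRight r (Nat.mul 20 j)) 1048575 with he
  set i' := Nat.shiftRight e 5 with hi'def
  set k := Nat.land e 31 with hk
  refine ⟨i', ?_, k % 17, ?_⟩
  · have := Nat.le_of_ble_eq_true hi'
    omega
  · have hk17 : k % 17 < 17 := Nat.mod_lt _ (by norm_num)
    have hjm : j % 17 = j := Nat.mod_eq_of_lt hj
    -- the element on the right
    set Y : Cfsg.Spor.He :=
      cc ^ (17 - k % 17) * zz * cc ^ (j % 17) * xs i * cc ^ (17 - j % 17) * zz * cc ^ (k % 17) with hY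
    have hpt : ∀ b : Fin 2058, b.1 ∈ baseB → rho (xs i') b = rho Y b := by
      intro b hbm
      have := Nat.eq_of_beq_eq_true (hb b.1 hbm)
      apply Fin.ext
      rw [xs, evX_sound]
      show evX 6 (Nat.land (Nat.shiftRight EW (Nat.mul 30 i')) 1073741823) b.1 = _
      rw [this, hY]
      rw [map_mul, map_mul, map_mul, map_mul, map_mul, map_mul, Equiv.Perm.mul_apply,
        Equiv.Perm.mul_apply, Equiv.Perm.mul_apply, Equiv.Perm.mul_apply, Equiv.Perm.mul_apply,
        Equiv.Perm.mul_apply]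
      rw [repTcpI k, show zz = e23 from rfl, rep23, repTcp j, xs, evX_sound, repTcpI j, rep23,
        repTcp k]
      rfl
    have hxY : xs i' = Y :=
      eq_of_base _ _ (hpt bb1 (by decide)) (hpt bb2 (by decide)) (hpt bb3 (by decide))
        (hpt bb4 (by decide))
    rw [hxY, hY, zz_inv, cc_pow_inv (k % 17) (le_of_lt hk17), hjm, cc_pow_inv j (le_of_lt hj)]
    group

theorem patRow_sound (PW e1 n1 e2 n2 i : ℕ) (h : patRow EW PW e1 n1 e2 n2 i = true) :
    ¬ ((cc ^ e1 * xs i) ^ n1 = 1 ∧ (cc ^ e2 * xs i) ^ n2 = 1) := by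
  unfold patRow at h
  rw [forceN_eq, forceN_eq, forceN_eq, Bool.and_eq_true] at h
  obtain ⟨hp, h⟩ := h
  set w := Nat.land (Nat.shiftRight PW (Nat.mul 13 i)) 8191 with hw
  set p := Nat.land w 4095 with hpdef
  have hp' : p < 2058 := by
    have := Nat.le_of_ble_eq_true hp
    omega
  have hstep : ∀ (e : ℕ) (q : Fin 2058),
      (rho (cc ^ e * xs i) q).1 = lk (Tcp e) (evX 6 (Eof i) q.1) := by
    intro e q
    rw [map_mul, Equiv.Perm.mul_apply, cc_pow_mod e, repTcp e, xs, evX_sound]
  have hiter : ∀ (e n : ℕ) (q : Fin 2058), (rho ((cc ^ e * xs i) ^ n) q).1 =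
      @Nat.rec (fun _ => ℕ) q.1 (fun _ q => lk (Tcp e) (evX 6 (Eof i) q)) n := by
    intro e n q
    induction n with
    | zero => simp
    | succ n ih =>
      rw [pow_succ', map_mul, Equiv.Perm.mul_apply, hstep, ih]
  rintro ⟨h1, h2⟩
  cases hty : Nat.beq (Nat.shiftRight w 12) 0 with
  | true =>
    rw [hty, cond_true] at h
    have := hiter e1 n1 ⟨p, hp'⟩
    rw [h1, map_one] at this
    have h3 : Nat.beq (@Nat.rec (fun _ => ℕ) p (fun _ q => lk (Tcp e1) (evX 6 (Eof i) q)) n1) p = true := by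
      rw [← this]; exact Nat.beq_refl _
    have h4 : Nat.beq (@Nat.rec (fun _ => ℕ) p (fun _ q => lk (Tcp e1)
      (evX 6 (Nat.land (Nat.shiftRight EW (Nat.mul 30 i)) 1073741823) q)) n1) p = true := h3
    rw [h4] at h
    exact absurd h (by simp)
  | false =>
    rw [hty, cond_false] at h
    have := hiter e2 n2 ⟨p, hp'⟩
    rw [h2, map_one] at this
    have h3 : Nat.beq (@Nat.rec (fun _ => ℕ) p (fun _ q => lk (Tcp e2) (evX 6 (Eof i) q)) n2) p = true := by
      rw [← this]; exact Nat.beq_refl _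
    have h4 : Nat.beq (@Nat.rec (fun _ => ℕ) p (fun _ q => lk (Tcp e2)
      (evX 6 (Nat.land (Nat.shiftRight EW (Nat.mul 30 i)) 1073741823) q)) n2) p = true := h3
    rw [h4] at h
    exact absurd h (by simp)

theorem patAll_sound (PW e1 n1 e2 n2 skip : ℕ) (h : patAll EW PW e1 n1 e2 n2 skip = true)
    (i : ℕ) (hi : i < 11025) (hs : i ≠ skip) :
    ¬ ((cc ^ e1 * xs i) ^ n1 = 1 ∧ (cc ^ e2 * xs i) ^ n2 = 1) := by
  unfold patAll at h
  rw [allBelowK_iff] at h
  have := h i hi
  have hne : Nat.beq i skip = false := by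
    cases hb : Nat.beq i skip with
    | false => rfl
    | true => exact absurd (Nat.eq_of_beq_eq_true hb) hs
  rw [hne, cond_false] at this
  exact patRow_sound PW e1 n1 e2 n2 i this

end Cfsg.Agent.Lib.helper17.HeOut
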