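import Mathlib
import Cfsg.Agent.Lib.Helper12.TC.Index

set_option autoImplicit false

/-! Coded permutations of 2058 points (16 bits per point) and the tests run by the kernel
(helper17). -/

namespace Cfsg.Agent.Lib.helper17.HeOut

open Cfsg.Agent.Lib.Helper12.TC

/-- the permutations of the 2058 points -/
abbrev PP : Type := Equiv.Perm (Fin 2058)

/-- the image of a point under a coded permutation -/
def lk (T p : ℕ) : ℕ := Nat.mod (Nat.shiftRight T (Nat.mul 16 p)) 65536

/-- the image of a point under a word of coded permutations, the last letter acting first -/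
def ev (w : List ℕ) (p : ℕ) : ℕ := @List.rec ℕ (fun _ => ℕ) p (fun T _ ih => lk T ih) w

theorem ev_nil (p : ℕ) : ev [] p = p := rfl

theorem ev_cons (T : ℕ) (w : List ℕ) (p : ℕ) : ev (T :: w) p = lk T (ev w p) := rfl

theorem ev_append (w v : List ℕ) (p : ℕ) : ev (w ++ v) p = ev w (ev v p) := by
  induction w with
  | nil => rfl
  | cons T w ih => rw [List.cons_append, ev_cons, ev_cons, ih]

/-- a coded permutation and a permutation agree -/
def Rep (T : ℕ) (g : PP) : Prop := ∀ i : Fin 2058, (g i).1 = lk T i.1

theorem rep_prod (w : List ℕ) (gs : List PP) (h : List.Forall₂ Rep w gs) (i : Fin 2058) :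
    (gs.prod i).1 = ev w i.1 := by
  induction h with
  | nil => rfl
  | cons hT _ ih =>
    rw [List.prod_cons, Equiv.Perm.mul_apply, hT, ih]
    rfl

/-- a coded permutation agrees with a word of coded permutations on all points -/
def eqW (T : ℕ) (w : List ℕ) : Bool := allBelowK 2058 (fun p => Nat.beq (lk T p) (ev w p))

theorem eqW_iff (T : ℕ) (w : List ℕ) : eqW T w = true ↔ ∀ p < 2058, lk T p = ev w p := by
  unfold eqW
  rw [allBelowK_iff]
  constructor
  · intro h p hp
    exact Nat.eq_of_beq_eq_true (h p hp)
  · intro h p hp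
    rw [h p hp]
    exact Nat.beq_refl _

theorem rep_of_eqW (T : ℕ) (w : List ℕ) (gs : List PP) (h1 : List.Forall₂ Rep w gs)
    (h : eqW T w = true) : Rep T gs.prod := by
  rw [eqW_iff] at h
  intro i
  rw [rep_prod w gs h1, h i.1 i.2]

/-- two words of coded permutations agree on all points -/
def eqWW (w v : List ℕ) : Bool := allBelowK 2058 (fun p => Nat.beq (ev w p) (ev v p))

theorem eqWW_iff (w v : List ℕ) : eqWW w v = true ↔ ∀ p < 2058, ev w p = ev v p := by
  unfold eqWW
  rw [allBelowK_iff]
  constructor
  · intro h p hp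
    exact Nat.eq_of_beq_eq_true (h p hp)
  · intro h p hp
    rw [h p hp]
    exact Nat.beq_refl _

theorem prod_eq_of_eqWW (w v : List ℕ) (gs hs : List PP) (h1 : List.Forall₂ Rep w gs)
    (h2 : List.Forall₂ Rep v hs) (h : eqWW w v = true) : gs.prod = hs.prod := by
  rw [eqWW_iff] at h
  apply Equiv.ext
  intro i
  apply Fin.ext
  rw [rep_prod w gs h1, rep_prod v hs h2]
  exact h i.1 i.2

theorem rep_eq (T : ℕ) (g h : PP) (hg : Rep T g) (hh : Rep T h) : g = h := by
  apply Equiv.ext
  intro i
  apply Fin.ext
  rw [hg i, hh i]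

theorem rep_one_of (T : ℕ) (h : eqW T [] = true) : Rep T 1 := by
  have := rep_of_eqW T [] [] List.Forall₂.nil h
  simpa using this

/-! ### counting marks -/

/-- the number of `q < n` with `f q = true`, with an accumulator -/
def cntB (f : ℕ → Bool) (n : ℕ) : ℕ → ℕ :=
  @Nat.rec (fun _ => ℕ → ℕ) (fun acc => acc)
    (fun q ih acc => forceN (cond (f q) (Nat.succ acc) acc) ih) n

theorem cntB_succ (f : ℕ → Bool) (n acc : ℕ) :
    cntB f (n + 1) acc = cntB f n (cond (f n) (acc + 1) acc) := by
  show forceN (cond (f n) (Nat.succ acc) acc) (cntB f n) = _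
  rw [forceN_eq]

theorem cntB_eq (f : ℕ → Bool) (n acc : ℕ) :
    cntB f n acc = acc + ((Finset.range n).filter (fun q => f q = true)).card := by
  induction n generalizing acc with
  | zero => simp [cntB]
  | succ n ih =>
    rw [cntB_succ, ih, Finset.range_add_one, Finset.filter_insert]
    by_cases h : f n = true
    · rw [if_pos h, Finset.card_insert_of_notMem (by simp), h]
      simp only [cond_true]
      omega
    · rw [if_neg h]
      have : f n = false := by simpa using h
      rw [this]
      simp

end Cfsg.Agent.Lib.helper17.HeOut
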