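import Cfsg.Agent.Lib.helper17.HeOut.Core

set_option autoImplicit false

/-! Orbit certificates and the chain of stabilisers (helper17). -/

namespace Cfsg.Agent.Lib.helper17.HeOut

open Cfsg.Agent.Lib.Helper12.TC

/-- entry `q` of an orbit table: 24 bits, `mark | parent (12) | letter (5) | depth (5)` -/
def oEnt (tab q : ℕ) : ℕ := Nat.land (Nat.shiftRight tab (Nat.mul 24 q)) 16777215

/-- the mark of a point -/
def oMk (tab q : ℕ) : Bool := Nat.beq (Nat.shiftRight (oEnt tab q) 22) 1

/-- the test of an orbit table: every marked point other than `b` is the image of a marked point of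
smaller depth under one of the letters -/
def orbOK (lets : List ℕ) (tab b : ℕ) : Bool :=
  allBelowK 2058 fun q =>
    forceN (oEnt tab q) fun e =>
      cond (Nat.beq (Nat.shiftRight e 22) 1)
        (cond (Nat.beq q b) true
          (forceN (Nat.land (Nat.shiftRight e 10) 4095) fun p =>
            forceN (oEnt tab p) fun ep =>
              Nat.beq (Nat.shiftRight ep 22) 1 &&
                (Nat.blt (Nat.land ep 31) (Nat.land e 31) &&
                  (Nat.blt p 2058 &&
                    (Nat.blt (Nat.land (Nat.shiftRight e 5) 31) lets.length &&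
                      Nat.beq (lk (nthK lets (Nat.land (Nat.shiftRight e 5) 31)) p) q)))))
        true

theorem nthK_eq_getD (l : List ℕ) (n : ℕ) : nthK l n = l.getD n 0 := by
  induction l generalizing n with
  | nil => cases n <;> rfl
  | cons a l ih =>
    cases n with
    | zero => rfl
    | succ n =>
      show nthK l n = _
      rw [ih]; rfl

theorem forall₂_getD {α β : Type*} {R : α → β → Prop} {l : List α} {m : List β}
    (h : List.Forall₂ R l m) (n : ℕ) (hn : n < l.length) (a : α) (b : β) :
    R (l.getD n a) (m.getD n b) := by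
  induction h generalizing n with
  | nil => simp at hn
  | cons h0 _ ih =>
    cases n with
    | zero => simpa using h0
    | succ n =>
      simp only [List.getD_cons_succ]
      exact ih n (by simpa using hn)

theorem forall₂_getD_mem {α β : Type*} {R : α → β → Prop} {l : List α} {m : List β}
    (h : List.Forall₂ R l m) (n : ℕ) (hn : n < l.length) (b : β) : m.getD n b ∈ m := by
  have hl := h.length_eq
  rw [List.getD_eq_getElem _ _ (by omega)]
  exact List.getElem_mem _

theorem orbOK_sound (lets : List ℕ) (gs : List PP) (hrep : List.Forall₂ Rep lets gs) (tab b : ℕ)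
    (hb : b < 2058) (h : orbOK lets tab b = true) :
    ∀ (d q : ℕ) (hq : q < 2058), oMk tab q = true → Nat.land (oEnt tab q) 31 = d →
      ∃ g ∈ Subgroup.closure {x | x ∈ gs}, g ⟨b, hb⟩ = ⟨q, hq⟩ := by
  unfold orbOK at h
  rw [allBelowK_iff] at h
  intro d
  induction d using Nat.strong_induction_on with
  | _ d ih =>
    intro q hq hm hd
    have hq' := h q hq
    rw [forceN_eq] at hq'
    have hm' : Nat.beq (Nat.shiftRight (oEnt tab q) 22) 1 = true := hm
    rw [hm', cond_true] at hq'
    by_cases hqb : q = b
    · subst hqb
      exact ⟨1, Subgroup.one_mem _, rfl⟩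
    · have hne : Nat.beq q b = false := by
        cases hbq : Nat.beq q b with
        | false => rfl
        | true => exact absurd (Nat.eq_of_beq_eq_true hbq) hqb
      rw [hne, cond_false, forceN_eq, forceN_eq] at hq'
      simp only [Bool.and_eq_true] at hq'
      obtain ⟨h1, h2, h3, h4, h5⟩ := hq'
      set p := Nat.land (Nat.shiftRight (oEnt tab q) 10) 4095 with hp
      set li := Nat.land (Nat.shiftRight (oEnt tab q) 5) 31 with hli
      have hp2058 : p < 2058 := by
        have := Nat.le_of_ble_eq_true h3
        omega
      have hlt : Nat.land (oEnt tab p) 31 < d := by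
        have := Nat.le_of_ble_eq_true h2
        rw [← hd]; omega
      have hli' : li < lets.length := by
        have := Nat.le_of_ble_eq_true h4
        omega
      obtain ⟨g, hg, hgb⟩ := ih _ hlt p hp2058 h1 rfl
      have hR : Rep (lets.getD li 0) (gs.getD li 1) := forall₂_getD hrep li hli' 0 1
      have hmem : gs.getD li 1 ∈ gs := forall₂_getD_mem hrep li hli' 1
      refine ⟨gs.getD li 1 * g, Subgroup.mul_mem _ (Subgroup.subset_closure hmem) hg, ?_⟩
      rw [Equiv.Perm.mul_apply, hgb]
      apply Fin.ext
      rw [hR]
      have := Nat.eq_of_beq_eq_true h5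
      rw [nthK_eq_getD] at this
      exact this

/-- the number of marked points -/
def oCnt (tab : ℕ) : ℕ := cntB (oMk tab) 2058 0

theorem card_filter_fin (f : ℕ → Bool) (n : ℕ) :
    (Finset.univ.filter (fun q : Fin n => f q.1 = true)).card =
      ((Finset.range n).filter (fun q => f q = true)).card := by
  apply Finset.card_bij (fun q _ => q.1)
  · intro q hq
    simp only [Finset.mem_filter, Finset.mem_univ, true_and] at hq
    simp [hq]
  · intro a _ b _ hab
    exact Fin.ext hab
  · intro q hq
    simp only [Finset.mem_filter, Finset.mem_range] at hq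
    exact ⟨⟨q, hq.1⟩, by simp [hq.2], rfl⟩

/-- the orbit of `b` under a subgroup containing the letters has at least as many points as are
marked -/
theorem orbit_card_ge (lets : List ℕ) (gs : List PP) (hrep : List.Forall₂ Rep lets gs) (tab b : ℕ)
    (hb : b < 2058) (h : orbOK lets tab b = true) (H : Subgroup PP) (hH : ∀ g ∈ gs, g ∈ H) :
    oCnt tab ≤ (MulAction.orbit H (⟨b, hb⟩ : Fin 2058)).ncard := by
  classical
  have hcl : Subgroup.closure {x | x ∈ gs} ≤ H := by
    rw [Subgroup.closure_le]
    intro x hx
    exact hH x hx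
  let F : Finset (Fin 2058) := Finset.univ.filter (fun q : Fin 2058 => oMk tab q.1 = true)
  have hF : F.card = oCnt tab := by
    unfold oCnt
    rw [cntB_eq, zero_add]
    exact card_filter_fin (oMk tab) 2058
  have hsub : (F : Set (Fin 2058)) ⊆ MulAction.orbit H (⟨b, hb⟩ : Fin 2058) := by
    intro q hq
    have hq' : oMk tab q.1 = true := by
      have := Finset.mem_coe.mp hq
      simpa [F] using this
    obtain ⟨g, hg, hgb⟩ := orbOK_sound lets gs hrep tab b hb h _ q.1 q.2 hq' rfl
    refine ⟨⟨g, hcl hg⟩, ?_⟩
    show g ⟨b, hb⟩ = q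
    rw [hgb]
  rw [← hF, ← Set.ncard_coe_finset F]
  exact Set.ncard_le_ncard hsub (Set.toFinite _)

/-- the step of the chain of stabilisers -/
theorem card_stab_step (H : Subgroup PP) (b : Fin 2058) (n : ℕ)
    (hn : n ≤ (MulAction.orbit H b).ncard) :
    n * Nat.card (H ⊓ MulAction.stabilizer PP b : Subgroup PP) ≤ Nat.card H := by
  have h1 := Subgroup.card_mul_index (MulAction.stabilizer H b)
  rw [MulAction.index_stabilizer] at h1
  have h2 : Nat.card (MulAction.stabilizer H b) =
      Nat.card (H ⊓ MulAction.stabilizer PP b : Subgroup PP) := by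
    apply Nat.card_congr
    refine ⟨fun x => ⟨x.1.1, ⟨x.1.2, ?_⟩⟩, fun y => ⟨⟨y.1, y.2.1⟩, ?_⟩, ?_, ?_⟩
    · have := x.2
      rw [MulAction.mem_stabilizer_iff] at this
      show x.1.1 ∈ MulAction.stabilizer PP b
      rw [MulAction.mem_stabilizer_iff]
      exact this
    · have : y.1 ∈ MulAction.stabilizer PP b := y.2.2
      rw [MulAction.mem_stabilizer_iff] at this ⊢
      exact this
    · intro x; rfl
    · intro y; rfl
  rw [← h1, h2, mul_comm]
  exact Nat.mul_le_mul_left _ hn

end Cfsg.Agent.Lib.helper17.HeOut
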