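import Cfsg.Agent.Lib.helper17.HeOut.Rho
import Cfsg.Agent.Lib.helper17.HeOut.ChkW0
import Cfsg.Agent.Lib.helper17.HeOut.ChkW1
import Cfsg.Agent.Lib.helper17.HeOut.ChkW2

set_option autoImplicit false
set_option maxRecDepth 100000

/-! the elements of He of the coded permutations (generated, helper17) -/

namespace Cfsg.Agent.Lib.helper17.HeOut

open Cfsg.Agent.Lib.Helper12.TC

theorem rep_of_word (T : ℕ) (w : List ℕ) (gs : List Cfsg.Spor.He)
    (h : List.Forall₂ (fun T g => Rep T (rho g)) w gs) (hc : eqW T w = true) :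
    Rep T (rho gs.prod) := by
  have h' : List.Forall₂ Rep w (gs.map rho) := by
    rw [List.forall₂_map_right_iff]; exact h
  have := rep_of_eqW T w (gs.map rho) h' hc
  rwa [← map_list_prod] at this

/-- the element s0 -/
noncomputable def e0 : Cfsg.Spor.He := vv 0

theorem tt0 : nthK He2058.TT 0 = T0 := by decide +kernel

theorem rep0 : Rep T0 (rho e0) := fun i => by rw [e0, rho_vv 0 (by norm_num) i, tt0]

/-- the element s1 -/
noncomputable def e1 : Cfsg.Spor.He := vv 1

theorem tt1 : nthK He2058.TT 1 = T1 := by decide +kernel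

theorem rep1 : Rep T1 (rho e1) := fun i => by rw [e1, rho_vv 1 (by norm_num) i, tt1]

/-- the element s2 -/
noncomputable def e2 : Cfsg.Spor.He := vv 2

theorem tt2 : nthK He2058.TT 2 = T2 := by decide +kernel

theorem rep2 : Rep T2 (rho e2) := fun i => by rw [e2, rho_vv 2 (by norm_num) i, tt2]

/-- the element s3 -/
noncomputable def e3 : Cfsg.Spor.He := vv 3

theorem tt3 : nthK He2058.TT 3 = T3 := by decide +kernel

theorem rep3 : Rep T3 (rho e3) := fun i => by rw [e3, rho_vv 3 (by norm_num) i, tt3]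

/-- the element s4 -/
noncomputable def e4 : Cfsg.Spor.He := vv 4

theorem tt4 : nthK He2058.TT 4 = T4 := by decide +kernel

theorem rep4 : Rep T4 (rho e4) := fun i => by rw [e4, rho_vv 4 (by norm_num) i, tt4]

/-- the element s5 -/
noncomputable def e5 : Cfsg.Spor.He := vv 5

theorem tt5 : nthK He2058.TT 5 = T5 := by decide +kernel

theorem rep5 : Rep T5 (rho e5) := fun i => by rw [e5, rho_vv 5 (by norm_num) i, tt5]

/-- the element s6 -/
noncomputable def e6 : Cfsg.Spor.He := vv 6

theorem tt6 : nthK He2058.TT 6 = T6 := by decide +kernel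

theorem rep6 : Rep T6 (rho e6) := fun i => by rw [e6, rho_vv 6 (by norm_num) i, tt6]

/-- the element c1 -/
noncomputable def e7 : Cfsg.Spor.He := [e1, e2, e3, e5].prod

theorem rep7 : Rep T7 (rho e7) :=
  rep_of_word T7 [T1, T2, T3, T5] [e1, e2, e3, e5]
    (List.Forall₂.cons rep1 (List.Forall₂.cons rep2 (List.Forall₂.cons rep3 (List.Forall₂.cons rep5 List.Forall₂.nil)))) chk7

/-- the element c2 -/
noncomputable def e8 : Cfsg.Spor.He := [e7, e7].prod

theorem rep8 : Rep T8 (rho e8) :=
  rep_of_word T8 [T7, T7] [e7, e7]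
    (List.Forall₂.cons rep7 (List.Forall₂.cons rep7 List.Forall₂.nil)) chk8

/-- the element c3 -/
noncomputable def e9 : Cfsg.Spor.He := [e8, e7].prod

theorem rep9 : Rep T9 (rho e9) :=
  rep_of_word T9 [T8, T7] [e8, e7]
    (List.Forall₂.cons rep8 (List.Forall₂.cons rep7 List.Forall₂.nil)) chk9

/-- the element c4 -/
noncomputable def e10 : Cfsg.Spor.He := [e9, e7].prod

theorem rep10 : Rep T10 (rho e10) :=
  rep_of_word T10 [T9, T7] [e9, e7]
    (List.Forall₂.cons rep9 (List.Forall₂.cons rep7 List.Forall₂.nil)) chk10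

/-- the element c5 -/
noncomputable def e11 : Cfsg.Spor.He := [e10, e7].prod

theorem rep11 : Rep T11 (rho e11) :=
  rep_of_word T11 [T10, T7] [e10, e7]
    (List.Forall₂.cons rep10 (List.Forall₂.cons rep7 List.Forall₂.nil)) chk11

/-- the element c6 -/
noncomputable def e12 : Cfsg.Spor.He := [e11, e7].prod

theorem rep12 : Rep T12 (rho e12) :=
  rep_of_word T12 [T11, T7] [e11, e7]
    (List.Forall₂.cons rep11 (List.Forall₂.cons rep7 List.Forall₂.nil)) chk12

/-- the element c7 -/
noncomputable def e13 : Cfsg.Spor.He := [e12, e7].prod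

theorem rep13 : Rep T13 (rho e13) :=
  rep_of_word T13 [T12, T7] [e12, e7]
    (List.Forall₂.cons rep12 (List.Forall₂.cons rep7 List.Forall₂.nil)) chk13

/-- the element c8 -/
noncomputable def e14 : Cfsg.Spor.He := [e13, e7].prod

theorem rep14 : Rep T14 (rho e14) :=
  rep_of_word T14 [T13, T7] [e13, e7]
    (List.Forall₂.cons rep13 (List.Forall₂.cons rep7 List.Forall₂.nil)) chk14

/-- the element c9 -/
noncomputable def e15 : Cfsg.Spor.He := [e14, e7].prod

theorem rep15 : Rep T15 (rho e15) :=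
  rep_of_word T15 [T14, T7] [e14, e7]
    (List.Forall₂.cons rep14 (List.Forall₂.cons rep7 List.Forall₂.nil)) chk15

/-- the element c10 -/
noncomputable def e16 : Cfsg.Spor.He := [e15, e7].prod

theorem rep16 : Rep T16 (rho e16) :=
  rep_of_word T16 [T15, T7] [e15, e7]
    (List.Forall₂.cons rep15 (List.Forall₂.cons rep7 List.Forall₂.nil)) chk16

/-- the element c11 -/
noncomputable def e17 : Cfsg.Spor.He := [e16, e7].prod

theorem rep17 : Rep T17 (rho e17) :=
  rep_of_word T17 [T16, T7] [e16, e7]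
    (List.Forall₂.cons rep16 (List.Forall₂.cons rep7 List.Forall₂.nil)) chk17

/-- the element c12 -/
noncomputable def e18 : Cfsg.Spor.He := [e17, e7].prod

theorem rep18 : Rep T18 (rho e18) :=
  rep_of_word T18 [T17, T7] [e17, e7]
    (List.Forall₂.cons rep17 (List.Forall₂.cons rep7 List.Forall₂.nil)) chk18

/-- the element c13 -/
noncomputable def e19 : Cfsg.Spor.He := [e18, e7].prod

theorem rep19 : Rep T19 (rho e19) :=
  rep_of_word T19 [T18, T7] [e18, e7]
    (List.Forall₂.cons rep18 (List.Forall₂.cons rep7 List.Forall₂.nil)) chk19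

/-- the element c14 -/
noncomputable def e20 : Cfsg.Spor.He := [e19, e7].prod

theorem rep20 : Rep T20 (rho e20) :=
  rep_of_word T20 [T19, T7] [e19, e7]
    (List.Forall₂.cons rep19 (List.Forall₂.cons rep7 List.Forall₂.nil)) chk20

/-- the element c15 -/
noncomputable def e21 : Cfsg.Spor.He := [e20, e7].prod

theorem rep21 : Rep T21 (rho e21) :=
  rep_of_word T21 [T20, T7] [e20, e7]
    (List.Forall₂.cons rep20 (List.Forall₂.cons rep7 List.Forall₂.nil)) chk21

/-- the element c16 -/
noncomputable def e22 : Cfsg.Spor.He := [e21, e7].prod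

theorem rep22 : Rep T22 (rho e22) :=
  rep_of_word T22 [T21, T7] [e21, e7]
    (List.Forall₂.cons rep21 (List.Forall₂.cons rep7 List.Forall₂.nil)) chk22

/-- the element z -/
noncomputable def e23 : Cfsg.Spor.He := [e3, e6, e5, e2, e3, e2, e3, e6, e2, e3, e5, e1, e2, e3, e2, e1, e5, e3, e2, e6, e3, e2, e3, e2, e5, e6, e3].prod

theorem rep23 : Rep T23 (rho e23) :=
  rep_of_word T23 [T3, T6, T5, T2, T3, T2, T3, T6, T2, T3, T5, T1, T2, T3, T2, T1, T5, T3, T2, T6, T3, T2, T3, T2, T5, T6, T3] [e3, e6, e5, e2, e3, e2, e3, e6, e2, e3, e5, e1, e2, e3, e2, e1, e5, e3, e2, e6, e3, e2, e3, e2, e5, e6, e3]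
    (List.Forall₂.cons rep3 (List.Forall₂.cons rep6 (List.Forall₂.cons rep5 (List.Forall₂.cons rep2 (List.Forall₂.cons rep3 (List.Forall₂.cons rep2 (List.Forall₂.cons rep3 (List.Forall₂.cons rep6 (List.Forall₂.cons rep2 (List.Forall₂.cons rep3 (List.Forall₂.cons rep5 (List.Forall₂.cons rep1 (List.Forall₂.cons rep2 (List.Forall₂.cons rep3 (List.Forall₂.cons rep2 (List.Forall₂.cons rep1 (List.Forall₂.cons rep5 (List.Forall₂.cons rep3 (List.Forall₂.cons rep2 (List.Forall₂.cons rep6 (List.Forall₂.cons rep3 (List.Forall₂.cons rep2 (List.Forall₂.cons rep3 (List.Forall₂.cons rep2 (List.Forall₂.cons rep5 (List.Forall₂.cons rep6 (List.Forall₂.cons rep3 List.Forall₂.nil))))))))))))))))))))))))))) chk23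

/-- the element h1_0 -/
noncomputable def e24 : Cfsg.Spor.He := [e20, e23, e20, e23, e18, e23, e21, e14, e23, e9, e23, e9, e23, e9].prod

theorem rep24 : Rep T24 (rho e24) :=
  rep_of_word T24 [T20, T23, T20, T23, T18, T23, T21, T14, T23, T9, T23, T9, T23, T9] [e20, e23, e20, e23, e18, e23, e21, e14, e23, e9, e23, e9, e23, e9]
    (List.Forall₂.cons rep20 (List.Forall₂.cons rep23 (List.Forall₂.cons rep20 (List.Forall₂.cons rep23 (List.Forall₂.cons rep18 (List.Forall₂.cons rep23 (List.Forall₂.cons rep21 (List.Forall₂.cons rep14 (List.Forall₂.cons rep23 (List.Forall₂.cons rep9 (List.Forall₂.cons rep23 (List.Forall₂.cons rep9 (List.Forall₂.cons rep23 (List.Forall₂.cons rep9 List.Forall₂.nil)))))))))))))) chk24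

/-- the element h1_0i -/
noncomputable def e25 : Cfsg.Spor.He := [e20, e23, e20, e23, e20, e23, e15, e8, e23, e11, e23, e9, e23, e9].prod

theorem rep25 : Rep T25 (rho e25) :=
  rep_of_word T25 [T20, T23, T20, T23, T20, T23, T15, T8, T23, T11, T23, T9, T23, T9] [e20, e23, e20, e23, e20, e23, e15, e8, e23, e11, e23, e9, e23, e9]
    (List.Forall₂.cons rep20 (List.Forall₂.cons rep23 (List.Forall₂.cons rep20 (List.Forall₂.cons rep23 (List.Forall₂.cons rep20 (List.Forall₂.cons rep23 (List.Forall₂.cons rep15 (List.Forall₂.cons rep8 (List.Forall₂.cons rep23 (List.Forall₂.cons rep11 (List.Forall₂.cons rep23 (List.Forall₂.cons rep9 (List.Forall₂.cons rep23 (List.Forall₂.cons rep9 List.Forall₂.nil)))))))))))))) chk25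

/-- the element h1_1 -/
noncomputable def e26 : Cfsg.Spor.He := [e22, e23, e17, e23, e20, e23, e14, e23, e10, e23, e9, e23, e9, e23, e9].prod

theorem rep26 : Rep T26 (rho e26) :=
  rep_of_word T26 [T22, T23, T17, T23, T20, T23, T14, T23, T10, T23, T9, T23, T9, T23, T9] [e22, e23, e17, e23, e20, e23, e14, e23, e10, e23, e9, e23, e9, e23, e9]
    (List.Forall₂.cons rep22 (List.Forall₂.cons rep23 (List.Forall₂.cons rep17 (List.Forall₂.cons rep23 (List.Forall₂.cons rep20 (List.Forall₂.cons rep23 (List.Forall₂.cons rep14 (List.Forall₂.cons rep23 (List.Forall₂.cons rep10 (List.Forall₂.cons rep23 (List.Forall₂.cons rep9 (List.Forall₂.cons rep23 (List.Forall₂.cons rep9 (List.Forall₂.cons rep23 (List.Forall₂.cons rep9 List.Forall₂.nil))))))))))))))) chk26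

/-- the element h1_1i -/
noncomputable def e27 : Cfsg.Spor.He := [e20, e23, e20, e23, e20, e23, e19, e23, e15, e23, e9, e23, e12, e23, e7].prod

theorem rep27 : Rep T27 (rho e27) :=
  rep_of_word T27 [T20, T23, T20, T23, T20, T23, T19, T23, T15, T23, T9, T23, T12, T23, T7] [e20, e23, e20, e23, e20, e23, e19, e23, e15, e23, e9, e23, e12, e23, e7]
    (List.Forall₂.cons rep20 (List.Forall₂.cons rep23 (List.Forall₂.cons rep20 (List.Forall₂.cons rep23 (List.Forall₂.cons rep20 (List.Forall₂.cons rep23 (List.Forall₂.cons rep19 (List.Forall₂.cons rep23 (List.Forall₂.cons rep15 (List.Forall₂.cons rep23 (List.Forall₂.cons rep9 (List.Forall₂.cons rep23 (List.Forall₂.cons rep12 (List.Forall₂.cons rep23 (List.Forall₂.cons rep7 List.Forall₂.nil))))))))))))))) chk27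

/-- the element h2_0 -/
noncomputable def e28 : Cfsg.Spor.He := [e24, e26, e26, e24, e24, e26, e25, e25, e26, e25, e26, e26, e24, e26, e26].prod

theorem rep28 : Rep T28 (rho e28) :=
  rep_of_word T28 [T24, T26, T26, T24, T24, T26, T25, T25, T26, T25, T26, T26, T24, T26, T26] [e24, e26, e26, e24, e24, e26, e25, e25, e26, e25, e26, e26, e24, e26, e26]
    (List.Forall₂.cons rep24 (List.Forall₂.cons rep26 (List.Forall₂.cons rep26 (List.Forall₂.cons rep24 (List.Forall₂.cons rep24 (List.Forall₂.cons rep26 (List.Forall₂.cons rep25 (List.Forall₂.cons rep25 (List.Forall₂.cons rep26 (List.Forall₂.cons rep25 (List.Forall₂.cons rep26 (List.Forall₂.cons rep26 (List.Forall₂.cons rep24 (List.Forall₂.cons rep26 (List.Forall₂.cons rep26 List.Forall₂.nil))))))))))))))) chk28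

/-- the element h2_0i -/
noncomputable def e29 : Cfsg.Spor.He := [e27, e27, e25, e27, e27, e24, e27, e24, e24, e27, e25, e25, e27, e27, e25].prod

theorem rep29 : Rep T29 (rho e29) :=
  rep_of_word T29 [T27, T27, T25, T27, T27, T24, T27, T24, T24, T27, T25, T25, T27, T27, T25] [e27, e27, e25, e27, e27, e24, e27, e24, e24, e27, e25, e25, e27, e27, e25]
    (List.Forall₂.cons rep27 (List.Forall₂.cons rep27 (List.Forall₂.cons rep25 (List.Forall₂.cons rep27 (List.Forall₂.cons rep27 (List.Forall₂.cons rep24 (List.Forall₂.cons rep27 (List.Forall₂.cons rep24 (List.Forall₂.cons rep24 (List.Forall₂.cons rep27 (List.Forall₂.cons rep25 (List.Forall₂.cons rep25 (List.Forall₂.cons rep27 (List.Forall₂.cons rep27 (List.Forall₂.cons rep25 List.Forall₂.nil))))))))))))))) chk29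

/-- the element h2_1 -/
noncomputable def e30 : Cfsg.Spor.He := [e25, e26, e26, e25, e27, e25, e27, e25, e26, e24, e27, e25, e25, e27, e24, e24].prod

theorem rep30 : Rep T30 (rho e30) :=
  rep_of_word T30 [T25, T26, T26, T25, T27, T25, T27, T25, T26, T24, T27, T25, T25, T27, T24, T24] [e25, e26, e26, e25, e27, e25, e27, e25, e26, e24, e27, e25, e25, e27, e24, e24]
    (List.Forall₂.cons rep25 (List.Forall₂.cons rep26 (List.Forall₂.cons rep26 (List.Forall₂.cons rep25 (List.Forall₂.cons rep27 (List.Forall₂.cons rep25 (List.Forall₂.cons rep27 (List.Forall₂.cons rep25 (List.Forall₂.cons rep26 (List.Forall₂.cons rep24 (List.Forall₂.cons rep27 (List.Forall₂.cons rep25 (List.Forall₂.cons rep25 (List.Forall₂.cons rep27 (List.Forall₂.cons rep24 (List.Forall₂.cons rep24 List.Forall₂.nil)))))))))))))))) chk30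

/-- the element h2_1i -/
noncomputable def e31 : Cfsg.Spor.He := [e25, e25, e26, e24, e24, e26, e25, e27, e24, e26, e24, e26, e24, e27, e27, e24].prod

theorem rep31 : Rep T31 (rho e31) :=
  rep_of_word T31 [T25, T25, T26, T24, T24, T26, T25, T27, T24, T26, T24, T26, T24, T27, T27, T24] [e25, e25, e26, e24, e24, e26, e25, e27, e24, e26, e24, e26, e24, e27, e27, e24]
    (List.Forall₂.cons rep25 (List.Forall₂.cons rep25 (List.Forall₂.cons rep26 (List.Forall₂.cons rep24 (List.Forall₂.cons rep24 (List.Forall₂.cons rep26 (List.Forall₂.cons rep25 (List.Forall₂.cons rep27 (List.Forall₂.cons rep24 (List.Forall₂.cons rep26 (List.Forall₂.cons rep24 (List.Forall₂.cons rep26 (List.Forall₂.cons rep24 (List.Forall₂.cons rep27 (List.Forall₂.cons rep27 (List.Forall₂.cons rep24 List.Forall₂.nil)))))))))))))))) chk31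

/-- the element h2_2 -/
noncomputable def e32 : Cfsg.Spor.He := [e26, e24, e26, e25, e25, e25, e25, e26, e24, e26, e24, e26, e26, e24].prod

theorem rep32 : Rep T32 (rho e32) :=
  rep_of_word T32 [T26, T24, T26, T25, T25, T25, T25, T26, T24, T26, T24, T26, T26, T24] [e26, e24, e26, e25, e25, e25, e25, e26, e24, e26, e24, e26, e26, e24]
    (List.Forall₂.cons rep26 (List.Forall₂.cons rep24 (List.Forall₂.cons rep26 (List.Forall₂.cons rep25 (List.Forall₂.cons rep25 (List.Forall₂.cons rep25 (List.Forall₂.cons rep25 (List.Forall₂.cons rep26 (List.Forall₂.cons rep24 (List.Forall₂.cons rep26 (List.Forall₂.cons rep24 (List.Forall₂.cons rep26 (List.Forall₂.cons rep26 (List.Forall₂.cons rep24 List.Forall₂.nil)))))))))))))) chk32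

/-- the element h2_2i -/
noncomputable def e33 : Cfsg.Spor.He := [e25, e27, e27, e25, e27, e25, e27, e24, e24, e24, e24, e27, e25, e27].prod

theorem rep33 : Rep T33 (rho e33) :=
  rep_of_word T33 [T25, T27, T27, T25, T27, T25, T27, T24, T24, T24, T24, T27, T25, T27] [e25, e27, e27, e25, e27, e25, e27, e24, e24, e24, e24, e27, e25, e27]
    (List.Forall₂.cons rep25 (List.Forall₂.cons rep27 (List.Forall₂.cons rep27 (List.Forall₂.cons rep25 (List.Forall₂.cons rep27 (List.Forall₂.cons rep25 (List.Forall₂.cons rep27 (List.Forall₂.cons rep24 (List.Forall₂.cons rep24 (List.Forall₂.cons rep24 (List.Forall₂.cons rep24 (List.Forall₂.cons rep27 (List.Forall₂.cons rep25 (List.Forall₂.cons rep27 List.Forall₂.nil)))))))))))))) chk33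

/-- the element h3_0 -/
noncomputable def e34 : Cfsg.Spor.He := [e32, e31, e32, e28, e28, e32, e30, e29, e33].prod

theorem rep34 : Rep T34 (rho e34) :=
  rep_of_word T34 [T32, T31, T32, T28, T28, T32, T30, T29, T33] [e32, e31, e32, e28, e28, e32, e30, e29, e33]
    (List.Forall₂.cons rep32 (List.Forall₂.cons rep31 (List.Forall₂.cons rep32 (List.Forall₂.cons rep28 (List.Forall₂.cons rep28 (List.Forall₂.cons rep32 (List.Forall₂.cons rep30 (List.Forall₂.cons rep29 (List.Forall₂.cons rep33 List.Forall₂.nil))))))))) chk34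

/-- the element h3_0i -/
noncomputable def e35 : Cfsg.Spor.He := [e32, e28, e31, e33, e29, e29, e33, e30, e33].prod

theorem rep35 : Rep T35 (rho e35) :=
  rep_of_word T35 [T32, T28, T31, T33, T29, T29, T33, T30, T33] [e32, e28, e31, e33, e29, e29, e33, e30, e33]
    (List.Forall₂.cons rep32 (List.Forall₂.cons rep28 (List.Forall₂.cons rep31 (List.Forall₂.cons rep33 (List.Forall₂.cons rep29 (List.Forall₂.cons rep29 (List.Forall₂.cons rep33 (List.Forall₂.cons rep30 (List.Forall₂.cons rep33 List.Forall₂.nil))))))))) chk35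

/-- the element h3_1 -/
noncomputable def e36 : Cfsg.Spor.He := [e33, e29, e32, e30, e30, e32, e28, e31].prod

theorem rep36 : Rep T36 (rho e36) :=
  rep_of_word T36 [T33, T29, T32, T30, T30, T32, T28, T31] [e33, e29, e32, e30, e30, e32, e28, e31]
    (List.Forall₂.cons rep33 (List.Forall₂.cons rep29 (List.Forall₂.cons rep32 (List.Forall₂.cons rep30 (List.Forall₂.cons rep30 (List.Forall₂.cons rep32 (List.Forall₂.cons rep28 (List.Forall₂.cons rep31 List.Forall₂.nil)))))))) chk36

/-- the element h3_1i -/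
noncomputable def e37 : Cfsg.Spor.He := [e30, e29, e33, e31, e31, e33, e28, e32].prod

theorem rep37 : Rep T37 (rho e37) :=
  rep_of_word T37 [T30, T29, T33, T31, T31, T33, T28, T32] [e30, e29, e33, e31, e31, e33, e28, e32]
    (List.Forall₂.cons rep30 (List.Forall₂.cons rep29 (List.Forall₂.cons rep33 (List.Forall₂.cons rep31 (List.Forall₂.cons rep31 (List.Forall₂.cons rep33 (List.Forall₂.cons rep28 (List.Forall₂.cons rep32 List.Forall₂.nil)))))))) chk37

/-- the element u -/
noncomputable def e38 : Cfsg.Spor.He := [e17, e23, e14, e23, e13, e23, e24, e26, e24, e26, e26, e24, e33, e30, e29, e36].prod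

theorem rep38 : Rep T38 (rho e38) :=
  rep_of_word T38 [T17, T23, T14, T23, T13, T23, T24, T26, T24, T26, T26, T24, T33, T30, T29, T36] [e17, e23, e14, e23, e13, e23, e24, e26, e24, e26, e26, e24, e33, e30, e29, e36]
    (List.Forall₂.cons rep17 (List.Forall₂.cons rep23 (List.Forall₂.cons rep14 (List.Forall₂.cons rep23 (List.Forall₂.cons rep13 (List.Forall₂.cons rep23 (List.Forall₂.cons rep24 (List.Forall₂.cons rep26 (List.Forall₂.cons rep24 (List.Forall₂.cons rep26 (List.Forall₂.cons rep26 (List.Forall₂.cons rep24 (List.Forall₂.cons rep33 (List.Forall₂.cons rep30 (List.Forall₂.cons rep29 (List.Forall₂.cons rep36 List.Forall₂.nil)))))))))))))))) chk38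

/-- the element t0 -/
noncomputable def e39 : Cfsg.Spor.He := [e13, e23, e18, e26, e26, e25, e26, e24, e26, e26, e28, e32, e30, e29, e31, e36, e34].prod

theorem rep39 : Rep T39 (rho e39) :=
  rep_of_word T39 [T13, T23, T18, T26, T26, T25, T26, T24, T26, T26, T28, T32, T30, T29, T31, T36, T34] [e13, e23, e18, e26, e26, e25, e26, e24, e26, e26, e28, e32, e30, e29, e31, e36, e34]
    (List.Forall₂.cons rep13 (List.Forall₂.cons rep23 (List.Forall₂.cons rep18 (List.Forall₂.cons rep26 (List.Forall₂.cons rep26 (List.Forall₂.cons rep25 (List.Forall₂.cons rep26 (List.Forall₂.cons rep24 (List.Forall₂.cons rep26 (List.Forall₂.cons rep26 (List.Forall₂.cons rep28 (List.Forall₂.cons rep32 (List.Forall₂.cons rep30 (List.Forall₂.cons rep29 (List.Forall₂.cons rep31 (List.Forall₂.cons rep36 (List.Forall₂.cons rep34 List.Forall₂.nil))))))))))))))))) chk39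

/-- the element t1 -/
noncomputable def e40 : Cfsg.Spor.He := [e9, e23, e14, e23, e7, e24, e26, e26, e25, e25, e25, e26, e31, e32, e29, e33, e28, e34].prod

theorem rep40 : Rep T40 (rho e40) :=
  rep_of_word T40 [T9, T23, T14, T23, T7, T24, T26, T26, T25, T25, T25, T26, T31, T32, T29, T33, T28, T34] [e9, e23, e14, e23, e7, e24, e26, e26, e25, e25, e25, e26, e31, e32, e29, e33, e28, e34]
    (List.Forall₂.cons rep9 (List.Forall₂.cons rep23 (List.Forall₂.cons rep14 (List.Forall₂.cons rep23 (List.Forall₂.cons rep7 (List.Forall₂.cons rep24 (List.Forall₂.cons rep26 (List.Forall₂.cons rep26 (List.Forall₂.cons rep25 (List.Forall₂.cons rep25 (List.Forall₂.cons rep25 (List.Forall₂.cons rep26 (List.Forall₂.cons rep31 (List.Forall₂.cons rep32 (List.Forall₂.cons rep29 (List.Forall₂.cons rep33 (List.Forall₂.cons rep28 (List.Forall₂.cons rep34 List.Forall₂.nil)))))))))))))))))) chk40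

/-- the element t2 -/
noncomputable def e41 : Cfsg.Spor.He := [e8, e23, e11, e23, e10, e24, e24, e24, e27, e27, e27, e28, e28, e31, e36].prod

theorem rep41 : Rep T41 (rho e41) :=
  rep_of_word T41 [T8, T23, T11, T23, T10, T24, T24, T24, T27, T27, T27, T28, T28, T31, T36] [e8, e23, e11, e23, e10, e24, e24, e24, e27, e27, e27, e28, e28, e31, e36]
    (List.Forall₂.cons rep8 (List.Forall₂.cons rep23 (List.Forall₂.cons rep11 (List.Forall₂.cons rep23 (List.Forall₂.cons rep10 (List.Forall₂.cons rep24 (List.Forall₂.cons rep24 (List.Forall₂.cons rep24 (List.Forall₂.cons rep27 (List.Forall₂.cons rep27 (List.Forall₂.cons rep27 (List.Forall₂.cons rep28 (List.Forall₂.cons rep28 (List.Forall₂.cons rep31 (List.Forall₂.cons rep36 List.Forall₂.nil))))))))))))))) chk41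

/-- the element t3 -/
noncomputable def e42 : Cfsg.Spor.He := [e23, e21, e23, e13, e23, e10, e26, e24, e28, e32, e30, e32, e28, e34].prod

theorem rep42 : Rep T42 (rho e42) :=
  rep_of_word T42 [T23, T21, T23, T13, T23, T10, T26, T24, T28, T32, T30, T32, T28, T34] [e23, e21, e23, e13, e23, e10, e26, e24, e28, e32, e30, e32, e28, e34]
    (List.Forall₂.cons rep23 (List.Forall₂.cons rep21 (List.Forall₂.cons rep23 (List.Forall₂.cons rep13 (List.Forall₂.cons rep23 (List.Forall₂.cons rep10 (List.Forall₂.cons rep26 (List.Forall₂.cons rep24 (List.Forall₂.cons rep28 (List.Forall₂.cons rep32 (List.Forall₂.cons rep30 (List.Forall₂.cons rep32 (List.Forall₂.cons rep28 (List.Forall₂.cons rep34 List.Forall₂.nil)))))))))))))) chk42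

/-- the element t4 -/
noncomputable def e43 : Cfsg.Spor.He := [e16, e23, e10, e23, e9, e26, e24, e26, e24, e26, e25, e28, e32, e28, e28, e34].prod

theorem rep43 : Rep T43 (rho e43) :=
  rep_of_word T43 [T16, T23, T10, T23, T9, T26, T24, T26, T24, T26, T25, T28, T32, T28, T28, T34] [e16, e23, e10, e23, e9, e26, e24, e26, e24, e26, e25, e28, e32, e28, e28, e34]
    (List.Forall₂.cons rep16 (List.Forall₂.cons rep23 (List.Forall₂.cons rep10 (List.Forall₂.cons rep23 (List.Forall₂.cons rep9 (List.Forall₂.cons rep26 (List.Forall₂.cons rep24 (List.Forall₂.cons rep26 (List.Forall₂.cons rep24 (List.Forall₂.cons rep26 (List.Forall₂.cons rep25 (List.Forall₂.cons rep28 (List.Forall₂.cons rep32 (List.Forall₂.cons rep28 (List.Forall₂.cons rep28 (List.Forall₂.cons rep34 List.Forall₂.nil)))))))))))))))) chk43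

/-- the element t5 -/
noncomputable def e44 : Cfsg.Spor.He := [e18, e23, e20, e23, e27, e25, e25, e27, e27, e32, e30, e32, e30, e36].prod

theorem rep44 : Rep T44 (rho e44) :=
  rep_of_word T44 [T18, T23, T20, T23, T27, T25, T25, T27, T27, T32, T30, T32, T30, T36] [e18, e23, e20, e23, e27, e25, e25, e27, e27, e32, e30, e32, e30, e36]
    (List.Forall₂.cons rep18 (List.Forall₂.cons rep23 (List.Forall₂.cons rep20 (List.Forall₂.cons rep23 (List.Forall₂.cons rep27 (List.Forall₂.cons rep25 (List.Forall₂.cons rep25 (List.Forall₂.cons rep27 (List.Forall₂.cons rep27 (List.Forall₂.cons rep32 (List.Forall₂.cons rep30 (List.Forall₂.cons rep32 (List.Forall₂.cons rep30 (List.Forall₂.cons rep36 List.Forall₂.nil)))))))))))))) chk44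

/-- the element t6 -/
noncomputable def e45 : Cfsg.Spor.He := [e14, e23, e9, e23, e13, e23, e10, e25, e25, e25, e26, e24, e29, e33, e30, e28, e28, e34].prod

theorem rep45 : Rep T45 (rho e45) :=
  rep_of_word T45 [T14, T23, T9, T23, T13, T23, T10, T25, T25, T25, T26, T24, T29, T33, T30, T28, T28, T34] [e14, e23, e9, e23, e13, e23, e10, e25, e25, e25, e26, e24, e29, e33, e30, e28, e28, e34]
    (List.Forall₂.cons rep14 (List.Forall₂.cons rep23 (List.Forall₂.cons rep9 (List.Forall₂.cons rep23 (List.Forall₂.cons rep13 (List.Forall₂.cons rep23 (List.Forall₂.cons rep10 (List.Forall₂.cons rep25 (List.Forall₂.cons rep25 (List.Forall₂.cons rep25 (List.Forall₂.cons rep26 (List.Forall₂.cons rep24 (List.Forall₂.cons rep29 (List.Forall₂.cons rep33 (List.Forall₂.cons rep30 (List.Forall₂.cons rep28 (List.Forall₂.cons rep28 (List.Forall₂.cons rep34 List.Forall₂.nil)))))))))))))))))) chk45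

/-- the element g0 -/
noncomputable def e46 : Cfsg.Spor.He := [e23, e18, e23, e12, e24, e27, e27, e27, e25, e25, e32, e30, e28, e31, e36].prod

theorem rep46 : Rep T46 (rho e46) :=
  rep_of_word T46 [T23, T18, T23, T12, T24, T27, T27, T27, T25, T25, T32, T30, T28, T31, T36] [e23, e18, e23, e12, e24, e27, e27, e27, e25, e25, e32, e30, e28, e31, e36]
    (List.Forall₂.cons rep23 (List.Forall₂.cons rep18 (List.Forall₂.cons rep23 (List.Forall₂.cons rep12 (List.Forall₂.cons rep24 (List.Forall₂.cons rep27 (List.Forall₂.cons rep27 (List.Forall₂.cons rep27 (List.Forall₂.cons rep25 (List.Forall₂.cons rep25 (List.Forall₂.cons rep32 (List.Forall₂.cons rep30 (List.Forall₂.cons rep28 (List.Forall₂.cons rep31 (List.Forall₂.cons rep36 List.Forall₂.nil))))))))))))))) chk46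

/-- the element g1 -/
noncomputable def e47 : Cfsg.Spor.He := [e14, e23, e14, e23, e19, e23, e8, e24, e26, e25, e27, e27, e25, e28, e32, e28, e30, e36, e34].prod

theorem rep47 : Rep T47 (rho e47) :=
  rep_of_word T47 [T14, T23, T14, T23, T19, T23, T8, T24, T26, T25, T27, T27, T25, T28, T32, T28, T30, T36, T34] [e14, e23, e14, e23, e19, e23, e8, e24, e26, e25, e27, e27, e25, e28, e32, e28, e30, e36, e34]
    (List.Forall₂.cons rep14 (List.Forall₂.cons rep23 (List.Forall₂.cons rep14 (List.Forall₂.cons rep23 (List.Forall₂.cons rep19 (List.Forall₂.cons rep23 (List.Forall₂.cons rep8 (List.Forall₂.cons rep24 (List.Forall₂.cons rep26 (List.Forall₂.cons rep25 (List.Forall₂.cons rep27 (List.Forall₂.cons rep27 (List.Forall₂.cons rep25 (List.Forall₂.cons rep28 (List.Forall₂.cons rep32 (List.Forall₂.cons rep28 (List.Forall₂.cons rep30 (List.Forall₂.cons rep36 (List.Forall₂.cons rep34 List.Forall₂.nil))))))))))))))))))) chk47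

/-- the element g2 -/
noncomputable def e48 : Cfsg.Spor.He := [e14, e23, e16, e23, e10, e23, e9, e25, e26, e26, e24, e24, e27, e30, e33, e31, e34].prod

theorem rep48 : Rep T48 (rho e48) :=
  rep_of_word T48 [T14, T23, T16, T23, T10, T23, T9, T25, T26, T26, T24, T24, T27, T30, T33, T31, T34] [e14, e23, e16, e23, e10, e23, e9, e25, e26, e26, e24, e24, e27, e30, e33, e31, e34]
    (List.Forall₂.cons rep14 (List.Forall₂.cons rep23 (List.Forall₂.cons rep16 (List.Forall₂.cons rep23 (List.Forall₂.cons rep10 (List.Forall₂.cons rep23 (List.Forall₂.cons rep9 (List.Forall₂.cons rep25 (List.Forall₂.cons rep26 (List.Forall₂.cons rep26 (List.Forall₂.cons rep24 (List.Forall₂.cons rep24 (List.Forall₂.cons rep27 (List.Forall₂.cons rep30 (List.Forall₂.cons rep33 (List.Forall₂.cons rep31 (List.Forall₂.cons rep34 List.Forall₂.nil))))))))))))))))) chk48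

/-- the element g3 -/
noncomputable def e49 : Cfsg.Spor.He := [e8, e23, e13, e23, e21, e23, e7, e25, e26, e26, e25, e27, e25, e25, e30, e36, e34].prod

theorem rep49 : Rep T49 (rho e49) :=
  rep_of_word T49 [T8, T23, T13, T23, T21, T23, T7, T25, T26, T26, T25, T27, T25, T25, T30, T36, T34] [e8, e23, e13, e23, e21, e23, e7, e25, e26, e26, e25, e27, e25, e25, e30, e36, e34]
    (List.Forall₂.cons rep8 (List.Forall₂.cons rep23 (List.Forall₂.cons rep13 (List.Forall₂.cons rep23 (List.Forall₂.cons rep21 (List.Forall₂.cons rep23 (List.Forall₂.cons rep7 (List.Forall₂.cons rep25 (List.Forall₂.cons rep26 (List.Forall₂.cons rep26 (List.Forall₂.cons rep25 (List.Forall₂.cons rep27 (List.Forall₂.cons rep25 (List.Forall₂.cons rep25 (List.Forall₂.cons rep30 (List.Forall₂.cons rep36 (List.Forall₂.cons rep34 List.Forall₂.nil))))))))))))))))) chk49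

/-- the element g4 -/
noncomputable def e50 : Cfsg.Spor.He := [e23, e24, e26, e25, e25, e26, e24, e33, e29, e30, e34].prod

theorem rep50 : Rep T50 (rho e50) :=
  rep_of_word T50 [T23, T24, T26, T25, T25, T26, T24, T33, T29, T30, T34] [e23, e24, e26, e25, e25, e26, e24, e33, e29, e30, e34]
    (List.Forall₂.cons rep23 (List.Forall₂.cons rep24 (List.Forall₂.cons rep26 (List.Forall₂.cons rep25 (List.Forall₂.cons rep25 (List.Forall₂.cons rep26 (List.Forall₂.cons rep24 (List.Forall₂.cons rep33 (List.Forall₂.cons rep29 (List.Forall₂.cons rep30 (List.Forall₂.cons rep34 List.Forall₂.nil))))))))))) chk50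

/-- the element g5 -/
noncomputable def e51 : Cfsg.Spor.He := [e16, e23, e14, e23, e19, e23, e8, e25, e25, e27, e24, e27, e27, e29, e31, e32, e29].prod

theorem rep51 : Rep T51 (rho e51) :=
  rep_of_word T51 [T16, T23, T14, T23, T19, T23, T8, T25, T25, T27, T24, T27, T27, T29, T31, T32, T29] [e16, e23, e14, e23, e19, e23, e8, e25, e25, e27, e24, e27, e27, e29, e31, e32, e29]
    (List.Forall₂.cons rep16 (List.Forall₂.cons rep23 (List.Forall₂.cons rep14 (List.Forall₂.cons rep23 (List.Forall₂.cons rep19 (List.Forall₂.cons rep23 (List.Forall₂.cons rep8 (List.Forall₂.cons rep25 (List.Forall₂.cons rep25 (List.Forall₂.cons rep27 (List.Forall₂.cons rep24 (List.Forall₂.cons rep27 (List.Forall₂.cons rep27 (List.Forall₂.cons rep29 (List.Forall₂.cons rep31 (List.Forall₂.cons rep32 (List.Forall₂.cons rep29 List.Forall₂.nil))))))))))))))))) chk51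

/-- the element g6 -/
noncomputable def e52 : Cfsg.Spor.He := [e23, e17, e23, e9, e23, e19, e25, e25, e26, e28, e32, e32, e28].prod

theorem rep52 : Rep T52 (rho e52) :=
  rep_of_word T52 [T23, T17, T23, T9, T23, T19, T25, T25, T26, T28, T32, T32, T28] [e23, e17, e23, e9, e23, e19, e25, e25, e26, e28, e32, e32, e28]
    (List.Forall₂.cons rep23 (List.Forall₂.cons rep17 (List.Forall₂.cons rep23 (List.Forall₂.cons rep9 (List.Forall₂.cons rep23 (List.Forall₂.cons rep19 (List.Forall₂.cons rep25 (List.Forall₂.cons rep25 (List.Forall₂.cons rep26 (List.Forall₂.cons rep28 (List.Forall₂.cons rep32 (List.Forall₂.cons rep32 (List.Forall₂.cons rep28 List.Forall₂.nil))))))))))))) chk52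

/-- the element g7 -/
noncomputable def e53 : Cfsg.Spor.He := [e14, e23, e16, e23, e10, e23, e9, e27, e24, e24, e24, e24, e26, e28, e28, e30, e28, e30, e36].prod

theorem rep53 : Rep T53 (rho e53) :=
  rep_of_word T53 [T14, T23, T16, T23, T10, T23, T9, T27, T24, T24, T24, T24, T26, T28, T28, T30, T28, T30, T36] [e14, e23, e16, e23, e10, e23, e9, e27, e24, e24, e24, e24, e26, e28, e28, e30, e28, e30, e36]
    (List.Forall₂.cons rep14 (List.Forall₂.cons rep23 (List.Forall₂.cons rep16 (List.Forall₂.cons rep23 (List.Forall₂.cons rep10 (List.Forall₂.cons rep23 (List.Forall₂.cons rep9 (List.Forall₂.cons rep27 (List.Forall₂.cons rep24 (List.Forall₂.cons rep24 (List.Forall₂.cons rep24 (List.Forall₂.cons rep24 (List.Forall₂.cons rep26 (List.Forall₂.cons rep28 (List.Forall₂.cons rep28 (List.Forall₂.cons rep30 (List.Forall₂.cons rep28 (List.Forall₂.cons rep30 (List.Forall₂.cons rep36 List.Forall₂.nil))))))))))))))))))) chk53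

/-- the element g8 -/
noncomputable def e54 : Cfsg.Spor.He := [e26, e25, e25, e27, e27, e25, e26, e24, e30, e28, e34].prod

theorem rep54 : Rep T54 (rho e54) :=
  rep_of_word T54 [T26, T25, T25, T27, T27, T25, T26, T24, T30, T28, T34] [e26, e25, e25, e27, e27, e25, e26, e24, e30, e28, e34]
    (List.Forall₂.cons rep26 (List.Forall₂.cons rep25 (List.Forall₂.cons rep25 (List.Forall₂.cons rep27 (List.Forall₂.cons rep27 (List.Forall₂.cons rep25 (List.Forall₂.cons rep26 (List.Forall₂.cons rep24 (List.Forall₂.cons rep30 (List.Forall₂.cons rep28 (List.Forall₂.cons rep34 List.Forall₂.nil))))))))))) chk54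


end Cfsg.Agent.Lib.helper17.HeOut
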