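import Cfsg.Agent.Lib.helper17.HeOut.Data1
import Cfsg.Agent.Lib.Helper12.TC.HePres

set_option autoImplicit false
set_option maxRecDepth 100000

/-! The images of the generators under the outer automorphism satisfy the relations: the tests run by
the kernel (helper17). -/

namespace Cfsg.Agent.Lib.helper17.HeOut

open Cfsg.Spor Cfsg.Agent.Lib.Helper12.TC Cfsg.Agent.Lib.Helper12.TC.HePres

/-- the coded images of the generators -/
def TTs : List ℕ := [T39, T40, T41, T42, T43, T44, T45]

theorem sig_rels : relsK TTs 2058 (coxWords He.edges gen 7 ++ extraWords) = true := by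
  decide +kernel

theorem sig_sq : relsK TTs 2058 (sqWords 7) = true := by decide +kernel

theorem chk_sig_c : eqWW [T40, T41, T42, T44] [T9] = true := by decide +kernel

theorem chk_u : eqWW [T38, T7] [T8, T38] = true := by decide +kernel

theorem chk_pat1 : eqWW [T7, T23, T7, T23, T7, T23] [] = true := by decide +kernel

theorem chk_pat2 : eqWW [T12, T23, T12, T23, T12, T23, T12, T23] [] = true := by decide +kernel

theorem chk_c_moves : lk T7 0 ≠ 0 := by decide +kernel

theorem chk_noncomm : lk T7 (lk T23 0) ≠ lk T23 (lk T7 0) := by decide +kernel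

end Cfsg.Agent.Lib.helper17.HeOut
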