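import Cfsg.Agent.Lib.helper17.HeOut.ClosSound
import Cfsg.Agent.Lib.helper17.HeOut.SigmaData

set_option autoImplicit false

/-! The outer automorphism of He (helper17). -/

namespace Cfsg.Agent.Lib.helper17.HeOut

open Cfsg.Spor Cfsg.Agent.Lib.Helper12.TC Cfsg.Agent.Lib.Helper12.TC.HePres

/-- the images of the generators under the outer automorphism -/
noncomputable def tf (i : ℕ) : Cfsg.Spor.He := [e39, e40, e41, e42, e43, e44, e45].getD i 1

theorem rep_tf (x : ℕ) (hx : x < 7) (i : Fin 2058) :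
    ((rho (tf x) i : Fin 2058) : ℕ) = Tget TTs x i := by
  interval_cases x
  · exact rep39 i
  · exact rep40 i
  · exact rep41 i
  · exact rep42 i
  · exact rep43 i
  · exact rep44 i
  · exact rep45 i

theorem rho_wprod (f : ℕ → Cfsg.Spor.He) (b : List ℕ) :
    rho (wprod f b) = wprod (fun i => rho (f i)) b := by
  induction b with
  | nil => simp [wprod]
  | cons s b ih => rw [wprod_cons, wprod_cons, map_mul, ih]

theorem tf_word (b : List ℕ) (hl : ∀ s ∈ b, s < 7)
    (h : allBelowK 2058 (fun i => Nat.beq (applyW TTs b i) i) = true) : wprod tf b = 1 := by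
  apply rho_injective
  rw [rho_wprod, map_one]
  apply Equiv.ext
  intro i
  apply Fin.ext
  rw [perm_word (fun i => rho (tf i)) rep_tf b hl i]
  exact Nat.eq_of_beq_eq_true ((allBelowK_iff 2058 _).mp h i.1 i.2)

theorem exists_sigma_hom : ∃ φ : Cfsg.Spor.He →* Cfsg.Spor.He, ∀ i < 7, φ (vv i) = tf i := by
  have hl1 : ∀ b ∈ coxWords He.edges gen 7 ++ extraWords, ∀ s ∈ b, s < 7 := by decide
  have hl2 : ∀ b ∈ sqWords 7, ∀ s ∈ b, s < 7 := by decide
  apply exists_hom tf
  · intro i hi
    have hb : [i, i] ∈ sqWords 7 := by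
      interval_cases i <;> decide
    have := tf_word [i, i] (hl2 _ hb) ((allListK_iff _ _).mp sig_sq _ hb)
    simpa [wprod] using this
  · intro b hb
    exact tf_word b (hl1 b hb) ((allListK_iff _ _).mp sig_rels b hb)

/-- the endomorphism -/
noncomputable def sigmaHom : Cfsg.Spor.He →* Cfsg.Spor.He := exists_sigma_hom.choose

theorem sigmaHom_vv (i : ℕ) (hi : i < 7) : sigmaHom (vv i) = tf i :=
  exists_sigma_hom.choose_spec i hi

theorem sigmaHom_cc : sigmaHom cc = cc ^ 3 := by
  have h1 : sigmaHom cc = [e40, e41, e42, e44].prod := by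
    rw [cc, e7, map_list_prod]
    show [sigmaHom (vv 1), sigmaHom (vv 2), sigmaHom (vv 3), sigmaHom (vv 5)].prod = _
    rw [sigmaHom_vv 1 (by norm_num), sigmaHom_vv 2 (by norm_num), sigmaHom_vv 3 (by norm_num),
      sigmaHom_vv 5 (by norm_num)]
    rfl
  have h2 := eq_of_eqWW [T40, T41, T42, T44] [T9] [e40, e41, e42, e44] [e9]
    (List.Forall₂.cons rep40 (List.Forall₂.cons rep41 (List.Forall₂.cons rep42
      (List.Forall₂.cons rep44 List.Forall₂.nil))))
    (List.Forall₂.cons rep9 List.Forall₂.nil) chk_sig_c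
  rw [h1, h2, List.prod_singleton, e9_pow]

theorem cc_ne_one : cc ≠ 1 := by
  intro h
  have := rep7 ⟨0, by norm_num⟩
  rw [show e7 = cc from rfl, h, map_one] at this
  exact chk_c_moves this.symm

theorem sigmaHom_injective : Function.Injective sigmaHom := by
  rw [← MonoidHom.ker_eq_bot_iff]
  rcases (MonoidHom.normal_ker sigmaHom).eq_bot_or_eq_top with h | h
  · exact h
  · exfalso
    have h0 : cc ∈ sigmaHom.ker := by rw [h]; exact Subgroup.mem_top _
    rw [MonoidHom.mem_ker, sigmaHom_cc] at h0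
    apply cc_ne_one
    calc cc = cc ^ 18 := by rw [cc_pow_mod 18]; norm_num
      _ = (cc ^ 3) ^ 6 := by rw [← pow_mul]
      _ = 1 := by rw [h0, one_pow]

/-- the outer automorphism -/
noncomputable def sigma : MulAut Cfsg.Spor.He :=
  MulEquiv.ofBijective sigmaHom
    ⟨sigmaHom_injective, Finite.injective_iff_surjective.mp sigmaHom_injective⟩

theorem sigma_cc : sigma cc = cc ^ 3 := sigmaHom_cc

end Cfsg.Agent.Lib.helper17.HeOut
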