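import Cfsg.Agent.Lib.helper17.HeOut.ClosSound
import Cfsg.Agent.Lib.helper17.HeOut.SylData
import Cfsg.Agent.Lib.helper17.HeOut.Abs4
import Cfsg.Agent.Lib.helper17.HeOut.Abs

set_option autoImplicit false

/-! The Sylow 2-subgroup of He and its centre: automorphisms send the involution to a conjugate
(helper17). -/

namespace Cfsg.Agent.Lib.helper17.HeOut

open Cfsg.Agent.Lib.Helper12.TC

/-- the generators of the Sylow 2-subgroup -/
noncomputable def gsyl (k : ℕ) : Cfsg.Spor.He :=
  [e46, e47, e48, e49, e50, e51, e52, e53, e54, e23].getD k 1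

theorem repG (k : ℕ) (hk : k < 10) : Rep (nthK tabsG k) (rho (gsyl k)) := by
  interval_cases k
  · exact rep46
  · exact rep47
  · exact rep48
  · exact rep49
  · exact rep50
  · exact rep51
  · exact rep52
  · exact rep53
  · exact rep54
  · exact rep23

/-- the product of the first `n` generators with the bits of `e` as exponents -/
noncomputable def eltP (e : ℕ) : ℕ → Cfsg.Spor.He
  | 0 => 1
  | n + 1 => eltP e n * (if Nat.land (Nat.shiftRight e n) 1 = 1 then gsyl n else 1)

theorem evE_sound (e n : ℕ) (hn : n ≤ 10) (p : Fin 2058) :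
    (rho (eltP e n) p).1 = evE e n p.1 := by
  induction n generalizing p with
  | zero => simp [eltP, evE_zero]
  | succ n ih =>
    rw [evE_succ, eltP, map_mul, Equiv.Perm.mul_apply]
    by_cases hb : Nat.land (Nat.shiftRight e n) 1 = 1
    · rw [if_pos hb, ih (by omega), repG n (by omega)]
      have : Nat.beq (Nat.land (Nat.shiftRight e n) 1) 1 = true := by rw [hb]; rfl
      rw [this, cond_true]
    · rw [if_neg hb, map_one, ih (by omega)]
      have : Nat.beq (Nat.land (Nat.shiftRight e n) 1) 1 = false := by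
        cases h : Nat.beq (Nat.land (Nat.shiftRight e n) 1) 1 with
        | false => rfl
        | true => exact absurd (Nat.eq_of_beq_eq_true h) hb
      rw [this, cond_false]
      rfl

/-- the elements of the Sylow 2-subgroup -/
noncomputable def elt (e : ℕ) : Cfsg.Spor.He := eltP e 10

/-- the set of generators -/
def sylGens : Set Cfsg.Spor.He := {x | ∃ k < 10, x = gsyl k}

/-- the Sylow 2-subgroup -/
noncomputable def Syl : Subgroup Cfsg.Spor.He := Subgroup.closure sylGens

theorem eltP_mem (e n : ℕ) (hn : n ≤ 10) : eltP e n ∈ Syl := by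
  induction n with
  | zero => exact Subgroup.one_mem _
  | succ n ih =>
    rw [eltP]
    apply Subgroup.mul_mem _ (ih (by omega))
    split_ifs
    · exact Subgroup.subset_closure ⟨n, by omega, rfl⟩
    · exact Subgroup.one_mem _

theorem eltP_zero (n : ℕ) : eltP 0 n = 1 := by
  induction n with
  | zero => rfl
  | succ n ih =>
    rw [eltP, ih]
    have : Nat.land (Nat.shiftRight 0 n) 1 ≠ 1 := by
      show (0 >>> n) &&& 1 ≠ 1
      simp
    rw [if_neg this, mul_one]

theorem elt_eq_of_base (g : Cfsg.Spor.He) (e : ℕ)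
    (h : ∀ b : Fin 2058, b.1 ∈ baseB → (rho g b).1 = evE e 10 b.1) : g = elt e := by
  have hpt : ∀ b : Fin 2058, b.1 ∈ baseB → rho g b = rho (elt e) b := by
    intro b hb
    apply Fin.ext
    rw [h b hb, elt, evE_sound e 10 le_rfl]
  exact eq_of_base _ _ (hpt bb1 (by decide)) (hpt bb2 (by decide)) (hpt bb3 (by decide))
    (hpt bb4 (by decide))

theorem syl_mul (k : ℕ) (hk : k < 10) (e : ℕ) (he : e < 1024) :
    ∃ e' < 1024, gsyl k * elt e = elt e' := by
  have h := sylMul_ok
  unfold sylMul at h
  rw [allBelowK_iff] at h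
  have ht := h (k * 1024 + e) (by omega)
  rw [forceN_eq, forceN_eq, forceN_eq, allListK_iff] at ht
  have hk' : Nat.div (k * 1024 + e) 1024 = k := by
    show (k * 1024 + e) / 1024 = k
    omega
  have he' : Nat.mod (k * 1024 + e) 1024 = e := by
    show (k * 1024 + e) % 1024 = e
    omega
  rw [hk', he'] at ht
  set e' := Nat.land (Nat.shiftRight MT (Nat.mul 10 (k * 1024 + e))) 1023 with he'def
  refine ⟨e', ?_, ?_⟩
  · have : e' ≤ 1023 := Nat.and_le_right
    omega
  · apply elt_eq_of_base
    intro b hb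
    have := Nat.eq_of_beq_eq_true (ht b.1 hb)
    rw [map_mul, Equiv.Perm.mul_apply, repG k hk, elt, evE_sound e 10 le_rfl, this]

theorem syl_sig (e : ℕ) (he : e < 1024) : sylSig e = sgEnt SG e := by
  have h := sylSig_ok
  unfold sylSigOK at h
  rw [allBelowK_iff] at h
  exact Nat.eq_of_beq_eq_true (h e he)

theorem syl_inj (e1 : ℕ) (h1 : e1 < 1024) (e2 : ℕ) (h2 : e2 < 1024) (h : elt e1 = elt e2) :
    e1 = e2 := by
  have hd := sylDistinct_ok
  unfold sylDistinct at hd
  rw [allBelowK_iff] at hd
  have hsig : sylSig e1 = sylSig e2 := by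
    have hp : ∀ p : Fin 2058, evE e1 10 p.1 = evE e2 10 p.1 := by
      intro p
      rw [← evE_sound e1 10 le_rfl, ← evE_sound e2 10 le_rfl]
      show (rho (elt e1) p).1 = (rho (elt e2) p).1
      rw [h]
    unfold sylSig
    rw [hp ⟨0, by norm_num⟩, hp ⟨11, by norm_num⟩, hp ⟨4, by norm_num⟩, hp ⟨6, by norm_num⟩]
  rw [syl_sig e1 h1, syl_sig e2 h2] at hsig
  rcases Nat.lt_trichotomy e1 e2 with hlt | heq | hgt
  · exfalso
    have := hd e2 h2
    rw [forceN_eq, allBelowK_iff] at this
    have := this e1 hlt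
    have hb : Nat.beq (sgEnt SG e2) (sgEnt SG e1) = true := by rw [hsig]; exact Nat.beq_refl _
    rw [hb] at this
    exact absurd this (by simp)
  · exact heq
  · exfalso
    have := hd e1 h1
    rw [forceN_eq, allBelowK_iff] at this
    have := this e2 hgt
    have hb : Nat.beq (sgEnt SG e1) (sgEnt SG e2) = true := by rw [hsig]; exact Nat.beq_refl _
    rw [hb] at this
    exact absurd this (by simp)

theorem syl_enum : (∀ x, x ∈ Syl ↔ ∃ e < 1024, x = elt e) ∧ Nat.card Syl = 1024 :=
  enum_subgroup gsyl elt 10 1024 (by norm_num) (eltP_zero 10) syl_mul syl_inj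
    (fun e _ => eltP_mem e 10 le_rfl)

theorem chk_elt512 : allListK baseB (fun b => Nat.beq (lk T23 b) (evE 512 10 b)) = true := by
  decide +kernel

theorem elt_512 : zz = elt 512 := by
  apply elt_eq_of_base
  intro b hb
  have h := chk_elt512
  rw [allListK_iff] at h
  have := Nat.eq_of_beq_eq_true (h b.1 hb)
  rw [show zz = e23 from rfl, rep23, this]

theorem chk_z_moves : lk T23 0 ≠ 0 := by decide +kernel

theorem zz_ne_one : zz ≠ 1 := by
  intro h
  have := rep23 ⟨0, by norm_num⟩
  rw [show e23 = zz from rfl, h, map_one] at this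
  exact chk_z_moves this.symm

theorem syl_center (x : Cfsg.Spor.He) (hx : x ∈ Syl) (hc : ∀ y ∈ Syl, x * y = y * x) :
    x = 1 ∨ x = zz := by
  obtain ⟨e, he, rfl⟩ := (syl_enum.1 x).mp hx
  by_cases h0 : e = 0
  · left; rw [h0]; exact eltP_zero 10
  by_cases h512 : e = 512
  · right; rw [h512]; exact elt_512.symm
  exfalso
  have h := sylCen_ok
  unfold sylCen at h
  rw [allBelowK_iff] at h
  have ht := h e he
  have hne : (Nat.beq e 0 || Nat.beq e 512) = false := by
    rw [Bool.or_eq_false_iff]
    constructor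
    · cases hb : Nat.beq e 0 with
      | false => rfl
      | true => exact absurd (Nat.eq_of_beq_eq_true hb) h0
    · cases hb : Nat.beq e 512 with
      | false => rfl
      | true => exact absurd (Nat.eq_of_beq_eq_true hb) h512
  rw [hne, cond_false, forceN_eq, forceN_eq, forceN_eq, Bool.and_eq_true, Bool.and_eq_true] at ht
  obtain ⟨hk, hp, hw⟩ := ht
  set w := Nat.land (Nat.shiftRight CW (Nat.mul 16 e)) 65535 with hwdef
  set k := Nat.shiftRight w 12 with hkdef
  set p := Nat.land w 4095 with hpdef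
  have hk' : k < 10 := by
    have := Nat.le_of_ble_eq_true hk
    omega
  have hp' : p < 2058 := by
    have := Nat.le_of_ble_eq_true hp
    omega
  have hcomm := hc (gsyl k) (Subgroup.subset_closure ⟨k, hk', rfl⟩)
  have h1 : (rho (gsyl k * elt e) ⟨p, hp'⟩).1 = lk (nthK tabsG k) (evE e 10 p) := by
    rw [map_mul, Equiv.Perm.mul_apply, repG k hk', elt, evE_sound e 10 le_rfl]
  have h2 : (rho (elt e * gsyl k) ⟨p, hp'⟩).1 = evE e 10 (lk (nthK tabsG k) p) := by
    rw [map_mul, Equiv.Perm.mul_apply, elt, evE_sound e 10 le_rfl, repG k hk']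
  rw [hcomm, h1] at h2
  have hb : Nat.beq (lk (nthK tabsG k) (evE e 10 p)) (evE e 10 (lk (nthK tabsG k) p)) = true := by
    rw [h2]; exact Nat.beq_refl _
  rw [hb] at hw
  exact absurd hw (by simp)

theorem fac2 : (Nat.card Cfsg.Spor.He).factorization 2 = 10 := by
  rw [card_he]
  have e : (4030387200 : ℕ) = 2 ^ 10 * 3935925 := by norm_num
  rw [e, Nat.factorization_mul (by norm_num) (by norm_num), Nat.Prime.factorization_pow Nat.prime_two]
  have : (3935925 : ℕ).factorization 2 = 0 := Nat.factorization_eq_zero_of_not_dvd (by norm_num)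
  simp [this]

/-- every automorphism sends the involution to a conjugate -/
theorem aut_zz (α : MulAut Cfsg.Spor.He) : ∃ g : Cfsg.Spor.He, α zz = g * zz * g⁻¹ :=
  aut_conj_of_sylow_center Syl 10 fac2 syl_enum.2 zz
    (by rw [elt_512]; exact eltP_mem 512 10 le_rfl) zz_ne_one syl_center α

end Cfsg.Agent.Lib.helper17.HeOut
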