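import Cfsg.Agent.Lib.helper17.HeOut.ClosAll
import Cfsg.Agent.Lib.helper17.HeOut.SylSound
import Cfsg.Agent.Lib.helper17.HeOut.Sigma
import Cfsg.Agent.Lib.helper17.HeOut.Abs3

set_option autoImplicit false

/-! The outer automorphism group of the Held group has order two (helper17). -/

namespace Cfsg.Agent.Lib.helper17.HeOut

open Cfsg.Agent.Lib.Helper12.TC

theorem orderOf_cc : orderOf cc = 17 := by
  have : Fact (Nat.Prime 17) := ⟨by norm_num⟩
  exact orderOf_eq_prime cc_pow17 cc_ne_one

theorem uu_conj : e38 * cc * e38⁻¹ = cc ^ 2 := by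
  have h := eq_of_eqWW [T38, T7] [T8, T38] [e38, e7] [e8, e38]
    (List.Forall₂.cons rep38 (List.Forall₂.cons rep7 List.Forall₂.nil))
    (List.Forall₂.cons rep8 (List.Forall₂.cons rep38 List.Forall₂.nil)) chk_u
  rw [List.prod_cons, List.prod_singleton, List.prod_cons, List.prod_singleton, e8_pow] at h
  rw [show cc = e7 from rfl] at *
  rw [h]
  group

theorem pat_cz : Pat cc zz := by
  constructor
  · have h := eq_of_eqWW [T7, T23, T7, T23, T7, T23] [] [e7, e23, e7, e23, e7, e23] []
      (List.Forall₂.cons rep7 (List.Forall₂.cons rep23 (List.Forall₂.cons rep7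
        (List.Forall₂.cons rep23 (List.Forall₂.cons rep7 (List.Forall₂.cons rep23
          List.Forall₂.nil)))))) List.Forall₂.nil chk_pat1
    simp only [List.prod_cons, List.prod_nil, mul_one] at h
    rw [show cc = e7 from rfl, show zz = e23 from rfl, pow_succ, pow_succ, pow_one]
    rw [← h]
    group
  · have h := eq_of_eqWW [T12, T23, T12, T23, T12, T23, T12, T23] []
      [e12, e23, e12, e23, e12, e23, e12, e23] []
      (List.Forall₂.cons rep12 (List.Forall₂.cons rep23 (List.Forall₂.cons rep12
        (List.Forall₂.cons rep23 (List.Forall₂.cons rep12 (List.Forall₂.cons rep23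
          (List.Forall₂.cons rep12 (List.Forall₂.cons rep23 List.Forall₂.nil))))))))
      List.Forall₂.nil chk_pat2
    simp only [List.prod_cons, List.prod_nil, mul_one] at h
    rw [← e12_pow, show zz = e23 from rfl, pow_succ, pow_succ, pow_succ, pow_one]
    rw [← h]
    group

theorem center_trivial (g : Cfsg.Spor.He) (hg : ∀ h : Cfsg.Spor.He, g * h = h * g) : g = 1 := by
  have hmem : g ∈ Subgroup.center Cfsg.Spor.He := by
    rw [Subgroup.mem_center_iff]
    intro h
    exact (hg h).symm
  rcases (inferInstance : (Subgroup.center Cfsg.Spor.He).Normal).eq_bot_or_eq_top with h | h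
  · rw [h, Subgroup.mem_bot] at hmem
    exact hmem
  · exfalso
    have hc : cc ∈ Subgroup.center Cfsg.Spor.He := by rw [h]; exact Subgroup.mem_top _
    rw [Subgroup.mem_center_iff] at hc
    have h1 := hc zz
    have h2 : (rho (zz * cc) ⟨0, by norm_num⟩).1 = (rho (cc * zz) ⟨0, by norm_num⟩).1 := by
      rw [h1]
    rw [map_mul, map_mul, Equiv.Perm.mul_apply, Equiv.Perm.mul_apply, show zz = e23 from rfl,
      show cc = e7 from rfl, rep23, rep7, rep7, rep23] at h2
    exact chk_noncomm h2.symm

/-- the outer automorphism group of the Held group has order two -/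
theorem out_he : Nat.card (Cfsg.Out Cfsg.Spor.He) = 2 := by
  refine out_card_two_main cc zz e38 sigma card_he center_trivial orderOf_cc uu_conj aut_zz gen_cz
    11025 xs (by norm_num) xs_zero clos_all pat_cz ?_ 10661 ?_ sigma_cc
  · intro i hi h0 hP
    apply patAll_sound PW1 1 3 6 4 0 pat1 i hi h0
    rw [pow_one]
    exact hP
  · intro i hi h0 hP
    apply patAll_sound PW3 3 3 18 4 10661 pat3 i hi h0
    obtain ⟨h1, h2⟩ := hP
    refine ⟨h1, ?_⟩
    rw [← pow_mul] at h2
    exact h2

end Cfsg.Agent.Lib.helper17.HeOut
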