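import Cfsg.Agent.Lib.helper17.HeOut.Core2
import Cfsg.Agent.Lib.Helper12.TC.He2058.Main
import Cfsg.Agent.Lib.Helper12.Ord.HeSimple
import Cfsg.Agent.Lib.Helper12.Ord.HeOrder

set_option autoImplicit false

/-! Homomorphisms out of the presented group He, and its permutation representation on 2058
points (helper17; on helper12's tables). -/

namespace Cfsg.Agent.Lib.helper17.HeOut

open Cfsg.Spor Cfsg.Agent.Lib.Helper12.TC Cfsg.Agent.Lib.Helper12.TC.HePres

/-- the relators of He -/
abbrev heRels : Set (FreeGroup He.Gen) := coxRelators He.edges ∪ {r | r ∈ He.extra}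

/-- the generators of He, numbered -/
noncomputable def vv (i : ℕ) : Cfsg.Spor.He := PresentedGroup.mk heRels (FreeGroup.of (gen i))

/-- a homomorphism from He, from images of the generators that satisfy the relations as words -/
theorem exists_hom {K : Type} [Group K] (f : ℕ → K) (hsq : ∀ i < 7, f i * f i = 1)
    (hw : ∀ b ∈ coxWords He.edges gen 7 ++ extraWords, wprod f b = 1) :
    ∃ φ : Cfsg.Spor.He →* K, ∀ i < 7, φ (vv i) = f i := by
  let F : He.Gen → K := fun y => f (idx y)
  have hFg : ∀ i < 7, F (gen i) = f i := by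
    intro i hi
    show f (idx (gen i)) = f i
    rw [hgi i hi]
  have hsqf : ∀ y, FreeGroup.lift F (FreeGroup.of y) * FreeGroup.lift F (FreeGroup.of y) = 1 := by
    intro y
    rw [FreeGroup.lift_apply_of]
    exact hsq _ (hidx y).1
  have hlet : ∀ b ∈ coxWords He.edges gen 7 ++ extraWords, ∀ s ∈ b, s < 7 := by decide
  have hwords : ∀ b ∈ coxWords He.edges gen 7 ++ extraWords,
      wprod (fun i => FreeGroup.lift F (FreeGroup.of (gen i))) b = 1 := by
    intro b hb
    rw [← hw b hb]
    have hl := hlet b hb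
    clear hb
    induction b with
    | nil => rfl
    | cons s b ih =>
      rw [wprod_cons, wprod_cons, ih (fun t ht => hl t (List.mem_cons_of_mem _ ht)),
        FreeGroup.lift_apply_of, hFg s (hl s List.mem_cons_self)]
  have hf : ∀ r ∈ heRels, FreeGroup.lift F r = 1 := by
    intro r hr
    rcases hr with hr | hr
    · exact cox_hom_of_words He.edges gen (FreeGroup.lift F) 7
        (fun y => ⟨idx y, (hidx y).1, (hidx y).2⟩) hsqf
        (fun b hb => hwords b (List.mem_append_left _ hb)) r hr
    · exact (hextra (FreeGroup.lift F) hsqf).mpr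
        (fun b hb => hwords b (List.mem_append_right _ hb)) r hr
  refine ⟨PresentedGroup.toGroup hf, ?_⟩
  intro i hi
  have : PresentedGroup.toGroup hf (PresentedGroup.mk heRels (FreeGroup.of (gen i))) = F (gen i) :=
    PresentedGroup.toGroup.of hf
  rw [vv, this, hFg i hi]

/-- the generators generate -/
theorem closure_vv : Subgroup.closure {γ | ∃ i < 7, γ = vv i} = (⊤ : Subgroup Cfsg.Spor.He) := by
  rw [eq_top_iff, ← PresentedGroup.closure_range_of heRels]
  apply Subgroup.closure_mono
  rintro _ ⟨y, rfl⟩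
  refine ⟨idx y, (hidx y).1, ?_⟩
  rw [vv, (hidx y).2]
  rfl

theorem exists_rho : ∃ ρ : Cfsg.Spor.He →* PP,
    ∀ x < 7, ∀ i : Fin 2058, ((ρ (vv x) i : Fin 2058) : ℕ) = lk (nthK He2058.TT x) i.1 := by
  have hperm := He2058.hperm
  have hrels := He2058.hrels
  have hψ : ∀ x < 7, ∀ i : Fin 2058,
      ((pT hperm x i : Fin He2058.cN) : ℕ) = Tget He2058.TT x i := fun x hx i => pT_apply hperm hx i
  have hlet : ∀ b ∈ coxWords He.edges gen 7 ++ extraWords, ∀ s ∈ b, s < 7 := by decide
  obtain ⟨φ, hφ⟩ := exists_hom (K := Equiv.Perm (Fin He2058.cN)) (fun i => pT hperm i)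
    (fun i _ => pT_sq hperm i) (by
      intro b hb
      apply Equiv.ext
      intro i
      apply Fin.ext
      rw [perm_word (fun i => pT hperm i) hψ b (hlet b hb) i]
      exact Nat.eq_of_beq_eq_true
        ((allBelowK_iff He2058.cN _).mp ((allListK_iff _ _).mp hrels b hb) i.val i.isLt))
  refine ⟨φ, ?_⟩
  intro x hx i
  have e : φ (vv x) = pT hperm x := hφ x hx
  exact (congrArg (fun g : Equiv.Perm (Fin He2058.cN) => ((g i : Fin He2058.cN) : ℕ)) e).trans
    (hψ x hx i)

/-- the permutation representation of He on 2058 points -/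
noncomputable def rho : Cfsg.Spor.He →* PP := exists_rho.choose

theorem rho_vv : ∀ x < 7, ∀ i : Fin 2058,
    ((rho (vv x) i : Fin 2058) : ℕ) = lk (nthK He2058.TT x) i.1 := exists_rho.choose_spec

instance : IsSimpleGroup Cfsg.Spor.He := Cfsg.Agent.Lib.Helper12.Ord.HeSimple.isSimpleGroup

instance : Finite Cfsg.Spor.He := Cfsg.Agent.Lib.Helper12.Ord.HeOrder.finite

theorem card_he : Nat.card Cfsg.Spor.He = 4030387200 := Cfsg.Agent.Lib.Helper12.Ord.HeOrder.card_eq

end Cfsg.Agent.Lib.helper17.HeOut
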