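import Cfsg.Agent.Lib.helper17.HeOut.ClosDefs

set_option autoImplicit false

/-! A Sylow 2-subgroup of He, listed by a polycyclic generating sequence: the tests run by the kernel
(helper17). -/

namespace Cfsg.Agent.Lib.helper17.HeOut

open Cfsg.Agent.Lib.Helper12.TC

/-- the coded generators of the Sylow 2-subgroup -/
def tabsG : List ℕ := [T46, T47, T48, T49, T50, T51, T52, T53, T54, T23]

/-- the image of a point under the element `g0^b0 * ... * g(n-1)^b(n-1)` of the bits `e` -/
def evE (e n : ℕ) : ℕ → ℕ :=
  @Nat.rec (fun _ => ℕ → ℕ) (fun p => p)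
    (fun k ih p => ih (cond (Nat.beq (Nat.land (Nat.shiftRight e k) 1) 1) (lk (nthK tabsG k) p) p)) n

theorem evE_zero (e p : ℕ) : evE e 0 p = p := rfl

theorem evE_succ (e n p : ℕ) : evE e (n + 1) p =
    evE e n (cond (Nat.beq (Nat.land (Nat.shiftRight e n) 1) 1) (lk (nthK tabsG n) p) p) := rfl

/-- the multiplication table: entry `k * 1024 + e` of `MT` (ten bits) is the code of `g_k * elt e` -/
def sylMul (MT : ℕ) : Bool :=
  allBelowK 10240 fun t =>
    forceN (Nat.div t 1024) fun k =>
      forceN (Nat.mod t 1024) fun e =>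
        forceN (Nat.land (Nat.shiftRight MT (Nat.mul 10 t)) 1023) fun e' =>
          allListK baseB fun b => Nat.beq (lk (nthK tabsG k) (evE e 10 b)) (evE e' 10 b)

/-- the images of the four points of the base under `elt e`, twelve bits each -/
def sylSig (e : ℕ) : ℕ :=
  Nat.lor (evE e 10 0) (Nat.lor (Nat.shiftLeft (evE e 10 11) 12)
    (Nat.lor (Nat.shiftLeft (evE e 10 4) 24) (Nat.shiftLeft (evE e 10 6) 36)))

/-- entry `e` of the table of the images of the base, forty-eight bits each -/
def sgEnt (SG e : ℕ) : ℕ := Nat.land (Nat.shiftRight SG (Nat.mul 48 e)) 281474976710655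

/-- the table of the images of the base is right -/
def sylSigOK (SG : ℕ) : Bool := allBelowK 1024 fun e => Nat.beq (sylSig e) (sgEnt SG e)

/-- the entries of the table of the images of the base are distinct -/
def sylDistinct (SG : ℕ) : Bool :=
  allBelowK 1024 fun e1 => forceN (sgEnt SG e1) fun s1 =>
    allBelowK e1 fun e2 => cond (Nat.beq s1 (sgEnt SG e2)) false true

/-- the witnesses that the elements other than `1` and `z` are not central: entry `e` of `CW`
(sixteen bits) holds a generator `k` and a point `p` with `g_k (elt e p) ≠ elt e (g_k p)` -/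
def sylCen (CW : ℕ) : Bool :=
  allBelowK 1024 fun e =>
    cond (Nat.beq e 0 || Nat.beq e 512) true
      (forceN (Nat.land (Nat.shiftRight CW (Nat.mul 16 e)) 65535) fun w =>
        forceN (Nat.shiftRight w 12) fun k =>
          forceN (Nat.land w 4095) fun p =>
            Nat.blt k 10 && (Nat.blt p 2058 &&
              cond (Nat.beq (lk (nthK tabsG k) (evE e 10 p)) (evE e 10 (lk (nthK tabsG k) p))) false true))

end Cfsg.Agent.Lib.helper17.HeOut
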